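import Groth.Agent.AdicLim.Noetherian
import Groth.Agent.EtLocalLib.Cpl
import Mathlib

/-!
Rig-closed primes of adic Noetherian rings: primes `q` which are maximal among the primes not
containing the ideal of definition.
-/

set_option autoImplicit false

universe u

namespace Groth.Agent.RigClosed17

/-- In a complete Noetherian ring a rig-closed prime is contained in exactly one other prime. -/
theorem exists_maximal {B : Type u} [CommRing B] [IsNoetherianRing B] (J : Ideal B)
    [IsAdicComplete J B] (q : PrimeSpectrum B) (h : ¬ J ≤ q.asIdeal)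
    (hmax : ∀ y : PrimeSpectrum B, q ≤ y → ¬ J ≤ y.asIdeal → y = q) :
    ∃ M : Ideal B, M.IsMaximal ∧ q.asIdeal ≤ M ∧ J ≤ M ∧
      ∀ y : Ideal B, y.IsPrime → q.asIdeal ≤ y → y = q.asIdeal ∨ y = M := by
  classical
  obtain ⟨a, haJ, haq⟩ := Set.not_subset.1 h
  have hJ : ∀ y : Ideal B, y.IsPrime → q.asIdeal ≤ y → y ≠ q.asIdeal → J ≤ y := fun y hy hle hne => by
    by_contra hJy
    exact hne (congrArg PrimeSpectrum.asIdeal (hmax ⟨y, hy⟩ hle hJy))
  have hS := Ideal.finite_minimalPrimes_of_isNoetherianRing B (q.asIdeal ⊔ Ideal.span {a})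
  -- every prime strictly above `q` is minimal over `q + (a)`
  have hmin : ∀ y : Ideal B, y.IsPrime → q.asIdeal ≤ y → y ≠ q.asIdeal →
      y ∈ (q.asIdeal ⊔ Ideal.span {a}).minimalPrimes := by
    intro y hy hle hne
    haveI := hy
    have hcov : (y : Set B) ⊆ ⋃ P ∈ hS.toFinset, (P : Set B) := by
      intro b hb
      simp only [Set.mem_iUnion, Set.Finite.mem_toFinset]
      by_cases hbq : b ∈ q.asIdeal
      · obtain ⟨P, hP, -⟩ := Ideal.exists_minimalPrimes_le (I := q.asIdeal ⊔ Ideal.span {a}) (J := y)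
          (sup_le hle ((Ideal.span_singleton_le_iff_mem y).2 (hJ y hy hle hne haJ)))
        exact ⟨P, hP, hP.1.2 (Ideal.mem_sup_left hbq)⟩
      obtain ⟨P, hP, hPy⟩ := Ideal.exists_minimalPrimes_le (I := q.asIdeal ⊔ Ideal.span {b}) (J := y)
        (sup_le hle ((Ideal.span_singleton_le_iff_mem y).2 hb))
      haveI := hP.isPrime
      have hbP : b ∈ P := hP.1.2 (Ideal.mem_sup_right (Ideal.mem_span_singleton_self b))
      have hqP : q.asIdeal ≤ P := le_sup_left.trans hP.1.2
      have hne' : P ≠ q.asIdeal := fun e => hbq (e ▸ hbP)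
      have haP : a ∈ P := hJ P inferInstance hqP hne' haJ
      obtain ⟨P₀, hP₀, hP₀P⟩ := Ideal.exists_minimalPrimes_le (I := q.asIdeal ⊔ Ideal.span {a}) (J := P)
        (sup_le hqP ((Ideal.span_singleton_le_iff_mem P).2 haP))
      haveI := hP₀.isPrime
      have haP₀ : a ∈ P₀ := hP₀.1.2 (Ideal.mem_sup_right (Ideal.mem_span_singleton_self a))
      have hqP₀ : q.asIdeal ≤ P₀ := le_sup_left.trans hP₀.1.2
      refine ⟨P₀, hP₀, ?_⟩
      suffices P₀ = P by rw [this]; exact hbP
      by_contra hlt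
      -- otherwise the image of `P` in `B/q` has height at least two
      let f := Ideal.Quotient.mk q.asIdeal
      have hk : ∀ {Q : Ideal B}, q.asIdeal ≤ Q → RingHom.ker f ≤ Q := fun hQ => Ideal.mk_ker.trans_le hQ
      haveI : (P₀.map f).IsPrime := Ideal.map_isPrime_of_surjective Ideal.Quotient.mk_surjective (hk hqP₀)
      haveI : (P.map f).IsPrime := Ideal.map_isPrime_of_surjective Ideal.Quotient.mk_surjective (hk hqP)
      have hc : ∀ {Q : Ideal B}, q.asIdeal ≤ Q → (Q.map f).comap f = Q := fun hQ => by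
        rw [Ideal.comap_map_of_surjective _ Ideal.Quotient.mk_surjective, ← RingHom.ker_eq_comap_bot]
        exact sup_eq_left.2 (hk hQ)
      have h1 : (P₀.map f) < P.map f := lt_of_le_of_ne (Ideal.map_mono hP₀P) fun e =>
        hlt (by rw [← hc hqP₀, e, hc hqP])
      have h0 : (⊥ : Ideal (B ⧸ q.asIdeal)) < P₀.map f := bot_lt_iff_ne_bot.2 fun e => by
        have := Ideal.mem_map_of_mem f haP₀
        rw [e, Ideal.mem_bot, Ideal.Quotient.eq_zero_iff_mem] at this
        exact haq this
      have hle1 := Ideal.map_height_le_one_of_mem_minimalPrimes hP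
      have hb0 : (⊥ : Ideal (B ⧸ q.asIdeal)).height < (P₀.map f).height :=
        Ideal.height_strict_mono_of_isPrime h0
      have h01 : (P₀.map f).height < (P.map f).height := Ideal.height_strict_mono_of_isPrime h1
      have h2 : (P₀.map f).height < 1 := lt_of_lt_of_le h01 hle1
      rw [Order.lt_one_iff] at h2
      rw [h2] at hb0
      exact absurd hb0 (by simp)
    obtain ⟨P, hP, hyP⟩ := (Ideal.subset_union_prime (f := fun P : Ideal B => P) ⊥ ⊥
      fun P hP _ _ => ((Set.Finite.mem_toFinset hS).1 hP).isPrime).1 hcov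
    rw [Set.Finite.mem_toFinset] at hP
    have hya : q.asIdeal ⊔ Ideal.span {a} ≤ y :=
      sup_le hle ((Ideal.span_singleton_le_iff_mem y).2 (hJ y hy hle hne haJ))
    have : y = P := le_antisymm hyP (hP.2 ⟨hy, hya⟩ hyP)
    rw [this]
    exact hP
  -- hence every prime containing `q + J` is maximal
  have hmaxI : ∀ y : Ideal B, y.IsPrime → q.asIdeal ⊔ J ≤ y → y.IsMaximal := by
    intro y hy hle
    obtain ⟨m, hm, hym⟩ := Ideal.exists_le_maximal y hy.ne_top
    have hne : ∀ z : Ideal B, y ≤ z → z ≠ q.asIdeal := fun z hz e =>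
      h (e ▸ (le_sup_right.trans hle).trans hz)
    have h1 := hmin y hy (le_sup_left.trans hle) (hne y le_rfl)
    have h2 := hmin m hm.isPrime ((le_sup_left.trans hle).trans hym) (hne m hym)
    have : m = y := le_antisymm (h2.2 h1.1 hym) hym
    exact this ▸ hm
  have hJjac : J ≤ Ring.jacobson B := by
    rw [← Ideal.jacobson_bot]
    exact IsAdicComplete.le_jacobson_bot J
  obtain ⟨M, hM, hqM⟩ := Ideal.exists_le_maximal q.asIdeal q.2.ne_top
  have hJm : ∀ m : Ideal B, m.IsMaximal → J ≤ m := fun m hm => hJjac.trans (Ring.jacobson_le_of_isMaximal m)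
  refine ⟨M, hM, hqM, hJm M hM, fun y hy hle => or_iff_not_imp_left.2 fun hne => ?_⟩
  have hym : y.IsMaximal := hmaxI y hy (sup_le hle (hJ y hy hle hne))
  -- uniqueness, lifting idempotents
  by_contra hyM
  haveI := hM
  let I := q.asIdeal ⊔ J
  let R := B ⧸ I
  haveI : IsArtinianRing R := by
    rw [isArtinianRing_iff_isNoetherianRing_krullDimLE_zero]
    refine ⟨inferInstance, Ring.krullDimLE_zero_iff.2 fun P hP => ?_⟩
    haveI := hmaxI (P.comap (Ideal.Quotient.mk I)) (Ideal.IsPrime.comap _)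
      (fun x hx => by
        show Ideal.Quotient.mk I x ∈ P
        rw [Ideal.Quotient.eq_zero_iff_mem.2 hx]
        exact zero_mem _)
    rw [← Ideal.map_comap_of_surjective _ Ideal.Quotient.mk_surjective P]
    exact Ideal.IsMaximal.map_of_surjective_of_ker_le Ideal.Quotient.mk_surjective (Ideal.ker_le_comap _)
  have hmapmax : ∀ m : Ideal B, m.IsMaximal → I ≤ m → (m.map (Ideal.Quotient.mk I)).IsPrime :=
    fun m hm hIm => Ideal.map_isPrime_of_surjective (H := hm.isPrime) Ideal.Quotient.mk_surjective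
      (Ideal.mk_ker.trans_le hIm)
  let P₁ : PrimeSpectrum R := ⟨_, hmapmax y hym (sup_le hle (hJm y hym))⟩
  let P₂ : PrimeSpectrum R := ⟨_, hmapmax M hM (sup_le hqM (hJm M hM))⟩
  have hP12 : P₁ ≠ P₂ := fun e => hyM <| by
    have := congrArg (fun P : PrimeSpectrum R => P.asIdeal.comap (Ideal.Quotient.mk I)) e
    simp only [P₁, P₂, Ideal.comap_map_of_surjective _ Ideal.Quotient.mk_surjective,
      ← RingHom.ker_eq_comap_bot, Ideal.mk_ker] at this
    rwa [sup_eq_left.2 (sup_le hle (hJm y hym)), sup_eq_left.2 (sup_le hqM (hJm M hM))] at this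
  obtain ⟨e, he, hes⟩ := PrimeSpectrum.isClopen_iff.1 (isClopen_discrete ({P₁} : Set (PrimeSpectrum R)))
  obtain ⟨x, rfl⟩ := Ideal.Quotient.mk_surjective e
  have hxI : x * x - x ∈ I := Ideal.Quotient.eq.1 (by rw [map_mul]; exact he)
  -- lift to the complete domain `B/q`
  let D := B ⧸ q.asIdeal
  let JD : Ideal D := J.map (algebraMap B D)
  haveI : IsAdicComplete JD D := Groth.Agent.AdicLim.isAdicComplete_quotient q.asIdeal
  haveI : IsDomain D := Ideal.Quotient.isDomain q.asIdeal
  let g : B →+* D := Ideal.Quotient.mk q.asIdeal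
  have hIJ : ∀ z : B, g z ∈ JD ↔ z ∈ I := fun z => by
    show z ∈ (J.map g).comap g ↔ _
    rw [Ideal.comap_map_of_surjective _ Ideal.Quotient.mk_surjective, ← RingHom.ker_eq_comap_bot,
      Ideal.mk_ker, sup_comm]
  obtain ⟨r, hr, hrx⟩ := HenselianRing.is_henselian (R := D) (I := JD) (Polynomial.X ^ 2 - Polynomial.X)
    (Polynomial.monic_X_pow_sub (n := 2) (by rw [Polynomial.degree_X]; norm_num)) (g x)
    (by
      rw [Polynomial.eval_sub, Polynomial.eval_pow, Polynomial.eval_X, pow_two, ← map_mul, ← map_sub]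
      exact (hIJ _).2 hxI)
    (by
      refine IsUnit.of_mul_eq_one (Ideal.Quotient.mk JD
        ((Polynomial.X ^ 2 - Polynomial.X : Polynomial D).derivative.eval (g x))) ?_
      rw [← map_mul, ← map_one (Ideal.Quotient.mk JD), Ideal.Quotient.eq]
      simp only [Polynomial.derivative_sub, Polynomial.derivative_X_pow, Polynomial.derivative_X,
        Polynomial.eval_sub, Polynomial.eval_mul, Polynomial.eval_C, Polynomial.eval_pow,
        Polynomial.eval_X, Polynomial.eval_one]
      have : g (4 * (x * x - x)) ∈ JD := (hIJ _).2 (Ideal.mul_mem_left _ _ hxI)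
      convert this using 1
      simp only [map_mul, map_sub, map_ofNat]
      push_cast
      ring)
  have hr' : r = 0 ∨ r = 1 := by
    have : r * (r - 1) = 0 := by
      have := hr
      simp only [Polynomial.IsRoot.def, Polynomial.eval_sub, Polynomial.eval_pow, Polynomial.eval_X] at this
      linear_combination this
    rcases mul_eq_zero.1 this with h' | h'
    · exact Or.inl h'
    · exact Or.inr (sub_eq_zero.1 h')
  rcases hr' with rfl | rfl
  · have : Ideal.Quotient.mk I x = 0 := by
      refine Ideal.Quotient.eq_zero_iff_mem.2 ((hIJ x).1 ?_)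
      rw [zero_sub] at hrx
      exact neg_mem_iff.1 hrx
    rw [this] at hes
    have : P₁ ∈ ({P₁} : Set (PrimeSpectrum R)) := rfl
    rw [hes] at this
    exact this (zero_mem _)
  · have : Ideal.Quotient.mk I x = 1 := by
      rw [← map_one (Ideal.Quotient.mk I), Ideal.Quotient.eq]
      refine (hIJ _).1 ?_
      rw [← neg_mem_iff] at hrx
      rw [map_sub, map_one]
      simpa using hrx
    rw [this] at hes
    have : P₂ ∈ ({P₁} : Set (PrimeSpectrum R)) := by
      rw [hes]
      exact fun h' => P₂.2.ne_top ((Ideal.eq_top_iff_one _).2 h')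
    exact hP12 this.symm

variable {A : Type u} [CommRing A] [IsNoetherianRing A] (I : Ideal A) [IsAdicComplete I A]
  {B : Type u} [CommRing B] [Algebra A B] [IsNoetherianRing B]
  [IsAdicComplete (I.map (algebraMap A B)) B]

/-- A quotient of a complete algebra which is finite modulo the ideal is finite. -/
theorem finite_quotient (q : Ideal B) (h : Module.Finite A (B ⧸ (q ⊔ I.map (algebraMap A B)))) :
    Module.Finite A (B ⧸ q) := by
  classical
  haveI hc : IsAdicComplete ((I.map (algebraMap A B)).map (algebraMap B (B ⧸ q))) (B ⧸ q) :=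
    Groth.Agent.AdicLim.isAdicComplete_quotient q
  rw [Ideal.map_map, ← IsScalarTower.algebraMap_eq] at hc
  haveI : IsAdicComplete I (B ⧸ q) := (IsAdicComplete.map_algebraMap_iff I (B ⧸ q)).1 hc
  haveI := h
  obtain ⟨n, s, hs⟩ := Module.Finite.exists_fin (R := A) (M := B ⧸ (q ⊔ I.map (algebraMap A B)))
  choose t ht using fun i => Ideal.Quotient.mk_surjective (s i)
  refine Groth.Agent.EtLocalLib.finite_of_complete I (n := n) (fun i => Ideal.Quotient.mk q (t i)) ?_
  intro y
  obtain ⟨y, rfl⟩ := Submodule.mkQ_surjective _ y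
  obtain ⟨b, rfl⟩ := Ideal.Quotient.mk_surjective y
  obtain ⟨c, hc'⟩ := (Submodule.mem_span_range_iff_exists_fun A).1
    (show Ideal.Quotient.mk (q ⊔ I.map (algebraMap A B)) b ∈ Submodule.span A (Set.range s) by
      rw [hs]; trivial)
  refine ⟨c, ?_⟩
  rw [LinearMap.comp_apply, Fintype.linearCombination_apply, Submodule.mkQ_apply, Submodule.mkQ_apply,
    Submodule.Quotient.eq, Ideal.smul_top_eq_map, Submodule.restrictScalars_mem]
  have : ∑ i, c i • t i - b ∈ q ⊔ I.map (algebraMap A B) := by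
    rw [← Ideal.Quotient.eq, map_sum]
    simp only [Algebra.smul_def, map_mul, ht, Ideal.Quotient.mk_algebraMap]
    rw [← hc']
    simp only [Algebra.smul_def]
  have := Ideal.mem_map_of_mem (Ideal.Quotient.mk q) this
  rw [Ideal.map_sup, Ideal.map_quotient_self, bot_sup_eq, Ideal.map_map, map_sub, map_sum] at this
  simp only [Algebra.smul_def, map_mul, Ideal.Quotient.mk_algebraMap] at this ⊢
  exact this

/-- If the residue field at the unique prime above a rig-closed prime is finite, so is the quotient. -/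
theorem finite_of_residue (q : PrimeSpectrum B) (h : ¬ I.map (algebraMap A B) ≤ q.asIdeal)
    (hmax : ∀ y : PrimeSpectrum B, q ≤ y → ¬ I.map (algebraMap A B) ≤ y.asIdeal → y = q)
    (hft : Algebra.FiniteType A (B ⧸ (q.asIdeal ⊔ I.map (algebraMap A B))))
    (hres : ∀ m : Ideal B, m.IsMaximal → q.asIdeal ≤ m → Module.Finite A (B ⧸ m)) :
    Module.Finite A (B ⧸ q.asIdeal) := by
  refine finite_quotient I q.asIdeal ?_
  obtain ⟨M, hM, hqM, hJM, huniq⟩ := exists_maximal (I.map (algebraMap A B)) q h hmax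
  haveI := hres M hM hqM
  haveI : Algebra.IsIntegral A (B ⧸ M) := Algebra.IsIntegral.of_finite A _
  haveI := hft
  haveI : Algebra.IsIntegral A (B ⧸ (q.asIdeal ⊔ I.map (algebraMap A B))) := ⟨fun x => by
    obtain ⟨b, rfl⟩ := Ideal.Quotient.mk_surjective x
    obtain ⟨P, hP, hPb⟩ := Algebra.IsIntegral.isIntegral (R := A) (Ideal.Quotient.mk M b)
    have hmem : Polynomial.aeval b P ∈ M := by
      rw [← Ideal.Quotient.eq_zero_iff_mem, ← Ideal.Quotient.mkₐ_eq_mk A, ← Polynomial.aeval_algHom_apply]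
      exact hPb
    have hrad : Polynomial.aeval b P ∈ (q.asIdeal ⊔ I.map (algebraMap A B)).radical := by
      rw [Ideal.radical_eq_sInf, Ideal.mem_sInf]
      rintro y ⟨hy, hyp⟩
      rcases huniq y hyp (le_sup_left.trans hy) with e | e
      · exact absurd (e ▸ le_sup_right.trans hy) h
      · exact e ▸ hmem
    obtain ⟨k, hk⟩ := hrad
    refine ⟨P ^ k, hP.pow k, ?_⟩
    rw [← Polynomial.aeval_def, ← Ideal.Quotient.mkₐ_eq_mk A, Polynomial.aeval_algHom_apply, map_pow,
      Ideal.Quotient.mkₐ_eq_mk, Ideal.Quotient.eq_zero_iff_mem]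
    exact hk⟩
  exact Algebra.IsIntegral.finite

omit [IsNoetherianRing A] [IsAdicComplete I A] [IsNoetherianRing B]
  [IsAdicComplete (I.map (algebraMap A B)) B] in
/-- A maximal ideal over a maximal ideal has finite residue field. -/
theorem finite_residue_of_isMaximal (M : Ideal B) [M.IsMaximal] (hM : (M.comap (algebraMap A B)).IsMaximal)
    (hft : Algebra.FiniteType A (B ⧸ M)) : Module.Finite A (B ⧸ M) := by
  haveI := hft
  haveI : (M.under A).IsMaximal := hM
  letI := Ideal.Quotient.field (M.under A)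
  letI := Ideal.Quotient.field M
  haveI : Algebra.FiniteType (A ⧸ M.under A) (B ⧸ M) :=
    Algebra.FiniteType.of_restrictScalars_finiteType A _ _
  haveI : Module.Finite (A ⧸ M.under A) (B ⧸ M) := finite_of_finite_type_of_isJacobsonRing _ _
  exact Module.Finite.trans (A ⧸ M.under A) (B ⧸ M)

omit [IsNoetherianRing A] [IsAdicComplete I A] [IsNoetherianRing B]
  [IsAdicComplete (I.map (algebraMap A B)) B] in
/-- The contraction of a rig-closed prime with finite quotient is rig-closed. -/
theorem rigClosed_comap_of_finite (q : PrimeSpectrum B) (h : ¬ I.map (algebraMap A B) ≤ q.asIdeal)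
    (hmax : ∀ y : PrimeSpectrum B, q ≤ y → ¬ I.map (algebraMap A B) ≤ y.asIdeal → y = q)
    [Module.Finite A (B ⧸ q.asIdeal)] :
    ¬ I ≤ q.asIdeal.comap (algebraMap A B) ∧ ∀ y : Ideal A, y.IsPrime →
      q.asIdeal.comap (algebraMap A B) ≤ y → ¬ I ≤ y → y = q.asIdeal.comap (algebraMap A B) := by
  refine ⟨fun hI => h (Ideal.map_le_iff_le_comap.2 hI), fun y hy hle hIy => ?_⟩
  haveI := hy
  haveI : Algebra.IsIntegral A (B ⧸ q.asIdeal) := Algebra.IsIntegral.of_finite A _
  obtain ⟨Q, -, hQ, hQy⟩ := Ideal.exists_ideal_over_prime_of_isIntegral (R := A) (S := B ⧸ q.asIdeal) y ⊥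
    (fun x hx => hle (show algebraMap A B x ∈ q.asIdeal from Ideal.Quotient.eq_zero_iff_mem.1
      (show Ideal.Quotient.mk q.asIdeal (algebraMap A B x) = 0 by simpa using hx)))
  haveI := hQ
  have hQy' : (Q.comap (Ideal.Quotient.mk q.asIdeal)).comap (algebraMap A B) = y := by
    rw [← hQy, Ideal.comap_comap]
    rfl
  have hqQ : q.asIdeal ≤ Q.comap (Ideal.Quotient.mk q.asIdeal) := fun x hx => by
    show Ideal.Quotient.mk q.asIdeal x ∈ Q
    rw [Ideal.Quotient.eq_zero_iff_mem.2 hx]
    exact zero_mem _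
  have := hmax ⟨_, Ideal.IsPrime.comap _⟩ hqQ (fun hI => hIy (hQy' ▸ Ideal.map_le_iff_le_comap.1 hI))
  rw [← hQy', show Q.comap (Ideal.Quotient.mk q.asIdeal) = q.asIdeal from congrArg PrimeSpectrum.asIdeal this]

/-- If the contraction of a rig-closed prime is rig-closed then the residue field is finite. -/
theorem residue_of_rigClosed_comap (q : PrimeSpectrum B) (h : ¬ I.map (algebraMap A B) ≤ q.asIdeal)
    (hft : Algebra.FiniteType A (B ⧸ (q.asIdeal ⊔ I.map (algebraMap A B))))
    (hp : ∀ y : PrimeSpectrum A, PrimeSpectrum.comap (algebraMap A B) q ≤ y → ¬ I ≤ y.asIdeal →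
      y = PrimeSpectrum.comap (algebraMap A B) q) :
    ∀ m : Ideal B, m.IsMaximal → q.asIdeal ≤ m → Module.Finite A (B ⧸ m) := by
  intro m hm hqm
  have hnI : ¬ I ≤ (PrimeSpectrum.comap (algebraMap A B) q).asIdeal := fun hI =>
    h (Ideal.map_le_iff_le_comap.2 hI)
  obtain ⟨MA, hMA, -, -, huA⟩ := exists_maximal I (PrimeSpectrum.comap (algebraMap A B) q) hnI hp
  have hJm : I.map (algebraMap A B) ≤ m :=
    (IsAdicComplete.le_jacobson_bot _).trans (sInf_le ⟨bot_le, hm⟩)
  have hmA : (m.comap (algebraMap A B)).IsMaximal := by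
    rcases huA _ (Ideal.IsPrime.comap _) (Ideal.comap_mono hqm) with e | e
    · exact absurd (e ▸ Ideal.map_le_iff_le_comap.1 hJm) hnI
    · rwa [e]
  haveI := hft
  exact finite_residue_of_isMaximal m hmA
    (Algebra.FiniteType.of_surjective
      (Ideal.Quotient.factorₐ A (sup_le hqm hJm))
      (Ideal.Quotient.factor_surjective (sup_le hqm hJm)))

omit [IsNoetherianRing A] [IsAdicComplete I A] [IsNoetherianRing B]
  [IsAdicComplete (I.map (algebraMap A B)) B] in
theorem finiteType_sup (hft : Algebra.FiniteType A (B ⧸ I.map (algebraMap A B))) (q : Ideal B) :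
    Algebra.FiniteType A (B ⧸ (q ⊔ I.map (algebraMap A B))) :=
  haveI := hft
  Algebra.FiniteType.of_surjective (Ideal.Quotient.factorₐ A le_sup_right)
    (Ideal.Quotient.factor_surjective le_sup_right)

end Groth.Agent.RigClosed17
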