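import Groth.Agent.RigClosed17.Basic
import Groth.Agent.CplFlat.Noetherian
import Groth.Agent.CplFlat.RingMap
import Groth.Agent.FormalFibre.Completion
import Groth.Agent.FlatDescent.Local
import Mathlib

/-!
Completed principal localisations `T I f` of an adic Noetherian ring, rig-closed points in them.
-/

set_option autoImplicit false

universe u

namespace Groth.Agent.RigClosed17

/-- The completed principal localisation. -/
abbrev T {A : Type u} [CommRing A] (I : Ideal A) (f : A) : Type u :=
  AdicCompletion (I.map (algebraMap A (Localization.Away f))) (Localization.Away f)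

variable {A : Type u} [CommRing A] [IsNoetherianRing A] (I : Ideal A) (f : A)

instance : IsNoetherianRing (T I f) := by
  haveI : IsNoetherianRing (Localization.Away f) :=
    IsLocalization.isNoetherianRing (Submonoid.powers f) _ inferInstance
  haveI : IsNoetherianRing (Localization.Away f ⧸ I.map (algebraMap A (Localization.Away f))) :=
    isNoetherianRing_of_surjective (Localization.Away f) _ _ Ideal.Quotient.mk_surjective
  exact Groth.Agent.CplFlat.isNoetherianRing_completion_of_fg _ (I.fg_of_isNoetherianRing.map _)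

instance : IsAdicComplete (I.map (algebraMap A (T I f))) (T I f) := by
  have := Groth.Agent.CplFlat.isAdicComplete_map (I.map (algebraMap A (Localization.Away f)))
    (Localization.Away f) (I.fg_of_isNoetherianRing.map _)
  rwa [Ideal.map_map, ← IsScalarTower.algebraMap_eq] at this

theorem map_T : I.map (algebraMap A (T I f)) =
    (I.map (algebraMap A (Localization.Away f))).map (algebraMap (Localization.Away f) (T I f)) := by
  rw [Ideal.map_map, ← IsScalarTower.algebraMap_eq]

theorem exists_approx (n : ℕ) (x : T I f) :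
    ∃ c : Localization.Away f, x - algebraMap _ (T I f) c ∈ (I.map (algebraMap A (T I f))) ^ n := by
  obtain ⟨c, hc⟩ := Submodule.Quotient.mk_surjective _
    (AdicCompletion.eval (I.map (algebraMap A (Localization.Away f))) (Localization.Away f) n x)
  refine ⟨c, ?_⟩
  rw [map_T, Groth.Agent.CplFlat.mem_pow_iff _ (I.fg_of_isNoetherianRing.map _), map_sub, sub_eq_zero, ← hc]
  rfl

omit [IsNoetherianRing A] in
theorem isUnit_self : IsUnit (algebraMap A (T I f) f) := by
  rw [IsScalarTower.algebraMap_apply A (Localization.Away f) (T I f)]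
  exact (IsLocalization.Away.algebraMap_isUnit (S := Localization.Away f) f).map _

/-- Continuous maps out of a completed localisation are determined on the ring. -/
theorem ext_hom {X : Type u} [CommRing X] (K : Ideal X) [IsHausdorff K X] (ψ₁ ψ₂ : T I f →+* X)
    (h : ∀ a, ψ₁ (algebraMap A _ a) = ψ₂ (algebraMap A _ a))
    (hI : ∀ a ∈ I, ψ₁ (algebraMap A _ a) ∈ K) : ψ₁ = ψ₂ := by
  have hloc : ψ₁.comp (algebraMap (Localization.Away f) (T I f)) =
      ψ₂.comp (algebraMap (Localization.Away f) (T I f)) :=
    IsLocalization.ringHom_ext (Submonoid.powers f) (RingHom.ext fun a => by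
      simp only [RingHom.comp_apply, ← IsScalarTower.algebraMap_apply]
      exact h a)
  refine RingHom.ext fun x => sub_eq_zero.1 (IsHausdorff.haus ‹_› _ fun n => ?_)
  rw [SModEq.zero, smul_eq_mul, Ideal.mul_top]
  obtain ⟨c, hc⟩ := exists_approx I f n x
  have hmap : ∀ ψ : T I f →+* X, (∀ a ∈ I, ψ (algebraMap A _ a) ∈ K) →
      ψ (x - algebraMap _ (T I f) c) ∈ K ^ n := fun ψ hψ => by
    have := Ideal.mem_map_of_mem ψ hc
    rw [Ideal.map_pow] at this
    refine Ideal.pow_right_mono ?_ n this
    rw [Ideal.map_map, Ideal.map_le_iff_le_comap]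
    exact fun a ha => hψ a ha
  have h1 := hmap ψ₁ hI
  have h2 := hmap ψ₂ (fun a ha => h a ▸ hI a ha)
  rw [map_sub] at h1 h2
  have h3 : ψ₁ (algebraMap _ (T I f) c) = ψ₂ (algebraMap _ (T I f) c) := RingHom.congr_fun hloc c
  have := sub_mem h1 h2
  rwa [h3, sub_sub_sub_cancel_right] at this

/-- The universal property of a completed localisation. -/
theorem exists_hom {X : Type u} [CommRing X] (K : Ideal X) [IsAdicComplete K X] (τ : A →+* X)
    (hf : IsUnit (τ f)) (hI : I.map τ ≤ K) : ∃ ψ : T I f →+* X, ∀ a, ψ (algebraMap A _ a) = τ a := by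
  let C := Localization.Away f
  let KC : Ideal C := I.map (algebraMap A C)
  let L : C →+* X := IsLocalization.Away.lift f hf
  have hL : ∀ a, L (algebraMap A C a) = τ a := fun a => IsLocalization.Away.lift_eq f hf a
  have hKC : ∀ n, KC ^ n ≤ (K ^ n).comap L := fun n => by
    rw [← Ideal.map_le_iff_le_comap, Ideal.map_pow]
    refine Ideal.pow_right_mono ?_ n
    rw [Ideal.map_map, show L.comp (algebraMap A C) = τ from RingHom.ext hL]
    exact hI
  let F : ∀ n, T I f →+* X ⧸ K ^ n := fun n =>
    (Ideal.quotientMap (K ^ n) L (hKC n)).comp (AdicCompletion.evalₐ KC n).toRingHom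
  have hF : ∀ {m n : ℕ} (hle : m ≤ n), (Ideal.Quotient.factorPow K hle).comp (F n) = F m := by
    intro m n hle
    refine RingHom.ext fun x => ?_
    obtain ⟨c, hc⟩ := Ideal.Quotient.mk_surjective (AdicCompletion.evalₐ KC n x)
    show Ideal.Quotient.factorPow K hle (Ideal.quotientMap (K ^ n) L (hKC n) (AdicCompletion.evalₐ KC n x)) =
      Ideal.quotientMap (K ^ m) L (hKC m) (AdicCompletion.evalₐ KC m x)
    rw [← FormalFibre.factor_evalₐ KC hle x, ← hc, Ideal.quotientMap_mk, Ideal.Quotient.factorPow,
      Ideal.Quotient.factor_mk, Ideal.Quotient.factor_mk, Ideal.quotientMap_mk]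
  refine ⟨IsAdicComplete.liftRingHom K F hF, fun a => sub_eq_zero.1 (IsHausdorff.haus (inferInstance : IsHausdorff K X) _ fun n => ?_)⟩
  rw [SModEq.zero, smul_eq_mul, Ideal.mul_top, ← Ideal.Quotient.eq, IsAdicComplete.mk_liftRingHom]
  show Ideal.quotientMap (K ^ n) L (hKC n) (AdicCompletion.evalₐ KC n (algebraMap A (T I f) a)) = _
  rw [IsScalarTower.algebraMap_apply A C (T I f), AlgHom.commutes, Ideal.Quotient.algebraMap_eq,
    Ideal.quotientMap_mk, hL]

omit [IsNoetherianRing A] in
/-- Compatible maps of completed localisations, on elements of the ring. -/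
theorem apply_algebraMap {B : Type u} [CommRing B] {φ : A →+* B} {J : Ideal B}
    (ψ : T I f →+* T J (φ f))
    (hψ : ψ.comp (algebraMap (Localization.Away f) (T I f)) =
      (algebraMap (Localization.Away (φ f)) (T J (φ f))).comp (Localization.awayMap φ f)) (a : A) :
    ψ (algebraMap A _ a) = algebraMap B _ (φ a) := by
  rw [IsScalarTower.algebraMap_apply A (Localization.Away f) (T I f),
    IsScalarTower.algebraMap_apply B (Localization.Away (φ f)) (T J (φ f))]
  refine (RingHom.congr_fun hψ (algebraMap A (Localization.Away f) a)).trans ?_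
  exact congrArg (algebraMap (Localization.Away (φ f)) (T J (φ f))) (IsLocalization.map_eq _ a)

/-- Existence of the canonical map of completed localisations. -/
theorem exists_psi {B : Type u} [CommRing B] [IsNoetherianRing B] (φ : A →+* B) (J : Ideal B)
    (hJ : I.map φ ≤ J) : ∃ ψ : T I f →+* T J (φ f),
      ψ.comp (algebraMap (Localization.Away f) (T I f)) =
        (algebraMap (Localization.Away (φ f)) (T J (φ f))).comp (Localization.awayMap φ f) := by
  obtain ⟨ψ, hψ⟩ := exists_hom I f (J.map (algebraMap B (T J (φ f))))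
    ((algebraMap B (T J (φ f))).comp φ) (isUnit_self J (φ f))
    (by rw [← Ideal.map_map]; exact Ideal.map_mono hJ)
  refine ⟨ψ, IsLocalization.ringHom_ext (Submonoid.powers f) (RingHom.ext fun a => ?_)⟩
  simp only [RingHom.comp_apply, ← IsScalarTower.algebraMap_apply, hψ]
  rw [IsScalarTower.algebraMap_apply B (Localization.Away (φ f)) (T J (φ f))]
  exact congrArg (algebraMap (Localization.Away (φ f)) (T J (φ f))) (IsLocalization.map_eq _ a).symm

/-- The quotients by ideals containing the ideal of definition are of finite type. -/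
theorem finiteType_quotient (N : Ideal (T I f)) (hN : I.map (algebraMap A (T I f)) ≤ N) :
    Algebra.FiniteType A (T I f ⧸ N) := by
  haveI : Algebra.FinitePresentation A (Localization.Away f) := IsLocalization.Away.finitePresentation f
  refine Algebra.FiniteType.of_surjective
    ((Ideal.Quotient.mkₐ A N).comp (IsScalarTower.toAlgHom A (Localization.Away f) (T I f))) fun x => ?_
  obtain ⟨x, rfl⟩ := Ideal.Quotient.mk_surjective x
  obtain ⟨c, hc⟩ := exists_approx I f 1 x
  rw [pow_one] at hc
  exact ⟨c, (Ideal.Quotient.eq.2 (hN hc)).symm⟩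

/-- Primes containing the ideal of definition are determined on the ring. -/
theorem prime_le_of_comap_le (P Q : Ideal (T I f)) [Q.IsPrime] (hP : I.map (algebraMap A (T I f)) ≤ P)
    (hQ : I.map (algebraMap A (T I f)) ≤ Q)
    (h : P.comap (algebraMap A (T I f)) ≤ Q.comap (algebraMap A (T I f))) : P ≤ Q := by
  intro x hx
  obtain ⟨c, hc⟩ := exists_approx I f 1 x
  rw [pow_one] at hc
  obtain ⟨a, ⟨_, k, rfl⟩, rfl⟩ := IsLocalization.exists_mk'_eq (Submonoid.powers f) c
  have hs := congrArg (algebraMap (Localization.Away f) (T I f))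
    (IsLocalization.mk'_spec (Localization.Away f) a (⟨f ^ k, k, rfl⟩ : Submonoid.powers f))
  rw [map_mul, ← IsScalarTower.algebraMap_apply, ← IsScalarTower.algebraMap_apply] at hs
  set c' := algebraMap (Localization.Away f) (T I f)
    (IsLocalization.mk' (Localization.Away f) a (⟨f ^ k, k, rfl⟩ : Submonoid.powers f)) with hc'
  have hcP : c' ∈ P := by
    have := P.sub_mem hx (hP hc)
    rwa [sub_sub_cancel] at this
  have haQ : algebraMap A (T I f) a ∈ Q := h (show algebraMap A (T I f) a ∈ P from hs ▸ P.mul_mem_right _ hcP)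
  rw [← hs] at haQ
  have hcQ : c' ∈ Q := (Ideal.IsPrime.mem_or_mem ‹_› haQ).resolve_right fun hfk =>
    Ideal.IsPrime.ne_top ‹_› (Ideal.eq_top_of_isUnit_mem _ hfk (by
      rw [map_pow]; exact (isUnit_self I f).pow k))
  have := Q.add_mem (hQ hc) hcQ
  rwa [sub_add_cancel] at this

/-- Restriction to a smaller completed localisation, which is flat. -/
theorem exists_res (e : A) : ∃ ρ : T I f →+* T I (f * e),
    (∀ a, ρ (algebraMap A _ a) = algebraMap A _ a) ∧ ρ.Flat := by
  have hfY : IsUnit (algebraMap A (T I (f * e)) f) :=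
    isUnit_of_mul_isUnit_left (y := algebraMap A (T I (f * e)) e)
      (by rw [← map_mul]; exact isUnit_self I (f * e))
  obtain ⟨ρ, hρ⟩ := exists_hom I f (I.map (algebraMap A (T I (f * e)))) (algebraMap A _) hfY le_rfl
  refine ⟨ρ, hρ, ?_⟩
  let g : Localization.Away f →+* Localization.Away (f * e) :=
    IsLocalization.Away.lift f (g := algebraMap A (Localization.Away (f * e)))
      (isUnit_of_mul_isUnit_left (y := algebraMap A _ e)
        (by rw [← map_mul]; exact IsLocalization.Away.algebraMap_isUnit _))
  have hg : ∀ a, g (algebraMap A _ a) = algebraMap A _ a := fun a => IsLocalization.Away.lift_eq f _ a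
  have hgflat : g.Flat := by
    letI := g.toAlgebra
    haveI : IsScalarTower A (Localization.Away f) (Localization.Away (f * e)) :=
      IsScalarTower.of_algebraMap_eq fun a => (hg a).symm
    show Module.Flat (Localization.Away f) (Localization.Away (f * e))
    exact (Module.flat_iff_of_isLocalization (Localization.Away f) (Submonoid.powers f) _).2
      (IsLocalization.flat _ (Submonoid.powers (f * e)))
  haveI : IsNoetherianRing (Localization.Away f) :=
    IsLocalization.isNoetherianRing (Submonoid.powers f) _ inferInstance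
  refine Groth.Agent.CplFlat.flat_completion_ringHom g hgflat _ _ ?_ ρ fun c => ?_
  · rw [Ideal.map_map]
    congr 1
    exact RingHom.ext hg
  · refine RingHom.congr_fun (IsLocalization.ringHom_ext (Submonoid.powers f)
      (j := ρ.comp (algebraMap _ _)) (k := (algebraMap _ _).comp g) (RingHom.ext fun a => ?_)) c
    simp only [RingHom.comp_apply, ← IsScalarTower.algebraMap_apply, hρ, hg]

/-- A further localisation at an element which is invertible at a rig-closed point. -/
theorem exists_point_localization (e : A) (q : PrimeSpectrum (T I f))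
    (hn : ¬ I.map (algebraMap A (T I f)) ≤ q.asIdeal)
    (hmax : ∀ y : PrimeSpectrum (T I f), q ≤ y → ¬ I.map (algebraMap A (T I f)) ≤ y.asIdeal → y = q)
    (he : IsUnit (Ideal.Quotient.mk q.asIdeal (algebraMap A (T I f) e))) :
    ∃ (ρ : T I f →+* T I (f * e)) (q' : PrimeSpectrum (T I (f * e))),
      (∀ a, ρ (algebraMap A _ a) = algebraMap A _ a) ∧ ρ.Flat ∧ q'.asIdeal.comap ρ = q.asIdeal ∧
      (∀ z, ∃ x, z - ρ x ∈ q'.asIdeal) ∧ ¬ I.map (algebraMap A (T I (f * e))) ≤ q'.asIdeal ∧
      ∀ y : PrimeSpectrum (T I (f * e)), q' ≤ y → ¬ I.map (algebraMap A (T I (f * e))) ≤ y.asIdeal → y = q' := by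
  let Y := T I (f * e)
  have hfY : IsUnit (algebraMap A Y f) := isUnit_of_mul_isUnit_left (y := algebraMap A Y e)
    (by rw [← map_mul]; exact isUnit_self I (f * e))
  obtain ⟨ρ, hρ, hρflat⟩ := exists_res I f e
  let D := T I f ⧸ q.asIdeal
  haveI hc : IsAdicComplete ((I.map (algebraMap A (T I f))).map (algebraMap (T I f) D)) D :=
    Groth.Agent.AdicLim.isAdicComplete_quotient q.asIdeal
  rw [Ideal.map_map, ← IsScalarTower.algebraMap_eq] at hc
  have hfe : IsUnit (algebraMap A D (f * e)) := by
    rw [map_mul]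
    refine IsUnit.mul ?_ ?_
    · rw [IsScalarTower.algebraMap_apply A (T I f) D]
      exact (isUnit_self I f).map _
    · exact he
  obtain ⟨π, hπ⟩ := exists_hom I (f * e) (I.map (algebraMap A D)) (algebraMap A D) hfe le_rfl
  have hπρ : ∀ x, π (ρ x) = Ideal.Quotient.mk q.asIdeal x := RingHom.congr_fun
    (ext_hom I f (I.map (algebraMap A D)) (π.comp ρ) (Ideal.Quotient.mk q.asIdeal)
      (fun a => by rw [RingHom.comp_apply, hρ, hπ]; rfl)
      (fun a ha => by rw [RingHom.comp_apply, hρ, hπ]; exact Ideal.mem_map_of_mem _ ha))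
  haveI : IsDomain D := Ideal.Quotient.isDomain q.asIdeal
  let q' : PrimeSpectrum Y := ⟨RingHom.ker π, RingHom.ker_isPrime π⟩
  refine ⟨ρ, q', hρ, ?_, ?_, ?_, ?_, ?_⟩
  · exact hρflat
  · ext x
    show π (ρ x) = 0 ↔ _
    rw [hπρ, Ideal.Quotient.eq_zero_iff_mem]
  · intro z
    obtain ⟨x, hx⟩ := Ideal.Quotient.mk_surjective (π z)
    exact ⟨x, RingHom.mem_ker.2 (by rw [map_sub, hπρ, hx, sub_self])⟩
  · refine fun h => hn (Ideal.map_le_iff_le_comap.2 fun a ha => ?_)
    have : π (algebraMap A Y a) = 0 := h (Ideal.mem_map_of_mem _ ha)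
    rw [hπ] at this
    exact (show algebraMap A (T I f) a ∈ q.asIdeal from Ideal.Quotient.eq_zero_iff_mem.1 this)
  · intro y hy hIy
    have hc' := hmax (PrimeSpectrum.comap ρ y)
      (fun x hx => hy (RingHom.mem_ker.2 (by rw [hπρ]; exact Ideal.Quotient.eq_zero_iff_mem.2 hx)))
      (fun h => hIy (Ideal.map_le_iff_le_comap.2 fun a ha => by
        have h2 : ρ (algebraMap A (T I f) a) ∈ y.asIdeal := h (Ideal.mem_map_of_mem _ ha)
        rwa [hρ] at h2))
    refine PrimeSpectrum.ext (le_antisymm (fun z hz => ?_) hy)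
    obtain ⟨x, hx⟩ := Ideal.Quotient.mk_surjective (π z)
    have hzx : z - ρ x ∈ RingHom.ker π := RingHom.mem_ker.2 (by rw [map_sub, hπρ, hx, sub_self])
    have hxy : ρ x ∈ y.asIdeal := by
      have := y.asIdeal.sub_mem hz (hy hzx)
      rwa [sub_sub_cancel] at this
    have hxq : x ∈ q.asIdeal := (congrArg PrimeSpectrum.asIdeal hc') ▸ hxy
    show π z = 0
    rw [← hx, Ideal.Quotient.eq_zero_iff_mem.2 hxq]

omit [IsNoetherianRing A] in
/-- Denominators making a field of finite type finite. -/
theorem exists_denominator (E : Type u) [Field E] [Algebra A E] [Algebra.FiniteType A E] :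
    ∃ h : A, algebraMap A E h ≠ 0 ∧ ∀ (A' : Type u) [CommRing A'] [Algebra A A'] [Algebra A' E]
      [IsScalarTower A A' E], IsUnit (algebraMap A A' h) → Module.Finite A' E := by
  classical
  let P : Ideal A := RingHom.ker (algebraMap A E)
  haveI : P.IsPrime := RingHom.ker_isPrime _
  let D := A ⧸ P
  letI : Algebra D E := (Ideal.Quotient.lift P (algebraMap A E) fun _ h => h).toAlgebra
  haveI : IsScalarTower A D E := IsScalarTower.of_algebraMap_eq fun _ => rfl
  haveI : FaithfulSMul D E := by
    rw [faithfulSMul_iff_algebraMap_injective]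
    exact (injective_iff_map_eq_zero _).2 fun x hx => by
      obtain ⟨x, rfl⟩ := Ideal.Quotient.mk_surjective x
      exact Ideal.Quotient.eq_zero_iff_mem.2 (show x ∈ P from hx)
  haveI : Algebra.FiniteType D E := Algebra.FiniteType.of_restrictScalars_finiteType A _ _
  letI := FractionRing.liftAlgebra D E
  haveI : Algebra.FiniteType (FractionRing D) E := Algebra.FiniteType.of_restrictScalars_finiteType D _ _
  haveI : Module.Finite (FractionRing D) E := finite_of_finite_type_of_isJacobsonRing _ _
  have halg : ∀ x : E, ∃ d : A, d ∉ P ∧ IsIntegral A (d • x) := by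
    intro x
    have hx : IsAlgebraic D x :=
      (IsFractionRing.isAlgebraic_iff D (FractionRing D) E).2
        (IsIntegral.of_finite (FractionRing D) x).isAlgebraic
    obtain ⟨y, hy, hyi⟩ := hx.exists_integral_multiple
    obtain ⟨d, rfl⟩ := Ideal.Quotient.mk_surjective y
    refine ⟨d, fun h => hy (Ideal.Quotient.eq_zero_iff_mem.2 h), ?_⟩
    haveI : Algebra.IsIntegral A D := Algebra.IsIntegral.of_finite A D
    have := isIntegral_trans (R := A) _ hyi
    rwa [← Ideal.Quotient.algebraMap_eq, algebraMap_smul] at this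
  choose d hd hdi using halg
  obtain ⟨S, hS⟩ := (inferInstance : Algebra.FiniteType A E).out
  refine ⟨∏ x ∈ S, d x, fun h => ?_, fun A' _ _ _ _ hu => ?_⟩
  · obtain ⟨x, -, hx⟩ := (Ideal.IsPrime.prod_mem_iff (p := P)).1 (show ∏ x ∈ S, d x ∈ P from h)
    exact hd x hx
  haveI : Algebra.FiniteType A' E := Algebra.FiniteType.of_restrictScalars_finiteType A _ _
  haveI : Algebra.IsIntegral A' E := ⟨fun z => by
    have hz : z ∈ Algebra.adjoin A (S : Set E) := hS ▸ Algebra.mem_top
    induction hz using Algebra.adjoin_induction with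
    | mem x hx =>
      obtain ⟨w, hw⟩ := isUnit_of_dvd_unit (map_dvd (algebraMap A A') (Finset.dvd_prod_of_mem d hx)) hu
      have h1 : IsIntegral A' ((w : A') • x) := by
        rw [hw, algebraMap_smul]
        exact (hdi x).tower_top
      have h2 := h1.smul (↑w⁻¹ : A')
      rwa [smul_smul, Units.inv_mul, one_smul] at h2
    | algebraMap r =>
      rw [IsScalarTower.algebraMap_apply A A' E]
      exact isIntegral_algebraMap
    | add x y _ _ h1 h2 => exact h1.add h2
    | mul x y _ _ h1 h2 => exact h1.mul h2⟩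
  exact Algebra.IsIntegral.finite

/-- Flatness can be tested after a flat local extension. -/
theorem flat_of_comp_flat {R X Y : Type u} [CommRing R] [CommRing X] [CommRing Y] (q : PrimeSpectrum X)
    (q' : PrimeSpectrum Y) (ψ : R →+* X) (ρ : X →+* Y) (hρ : ρ.Flat) (hq : q'.asIdeal.comap ρ = q.asIdeal)
    (h : ((algebraMap Y (Localization.AtPrime q'.asIdeal)).comp (ρ.comp ψ)).Flat) :
    ((algebraMap X (Localization.AtPrime q.asIdeal)).comp ψ).Flat := by
  let S := Localization.AtPrime q.asIdeal
  let S' := Localization.AtPrime q'.asIdeal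
  let χ : S →+* S' := Localization.localRingHom q.asIdeal q'.asIdeal ρ hq.symm
  letI : Algebra R S := ((algebraMap X S).comp ψ).toAlgebra
  letI : Algebra R S' := ((algebraMap Y S').comp (ρ.comp ψ)).toAlgebra
  letI : Algebra S S' := χ.toAlgebra
  haveI : IsScalarTower R S S' := IsScalarTower.of_algebraMap_eq fun r =>
    (Localization.localRingHom_to_map q.asIdeal q'.asIdeal ρ hq.symm (ψ r)).symm
  haveI : Module.Flat R S' := h
  haveI : Module.Flat S S' := RingHom.Flat.localRingHom hρ _ _ hq.symm
  haveI : IsLocalHom (algebraMap S S') := Localization.isLocalHom_localRingHom _ _ _ _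
  haveI : Module.FaithfullyFlat S S' := Module.FaithfullyFlat.of_flat_of_isLocalHom
  exact Groth.FlatDescent.flat_of_faithfullyFlat_of_flat (M := S')

/-- A further localisation, with the parameters given up to equality. -/
theorem exists_point_localization' (e : A) (q : PrimeSpectrum (T I f))
    (hn : ¬ I.map (algebraMap A (T I f)) ≤ q.asIdeal)
    (hmax : ∀ y : PrimeSpectrum (T I f), q ≤ y → ¬ I.map (algebraMap A (T I f)) ≤ y.asIdeal → y = q)
    (he : IsUnit (Ideal.Quotient.mk q.asIdeal (algebraMap A (T I f) e)))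
    (J : Ideal A) (g : A) (hJ : J = I) (hg : g = f * e) :
    ∃ (ρ : T I f →+* T J g) (q' : PrimeSpectrum (T J g)),
      (∀ a, ρ (algebraMap A _ a) = algebraMap A _ a) ∧ ρ.Flat ∧ q'.asIdeal.comap ρ = q.asIdeal ∧
      (∀ z, ∃ x, z - ρ x ∈ q'.asIdeal) ∧ ¬ J.map (algebraMap A (T J g)) ≤ q'.asIdeal ∧
      ∀ y : PrimeSpectrum (T J g), q' ≤ y → ¬ J.map (algebraMap A (T J g)) ≤ y.asIdeal → y = q' := by
  subst hJ hg
  exact exists_point_localization J f e q hn hmax he

/-- An element outside the maximal ideal above a rig-closed prime is a unit in the quotient. -/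
theorem isUnit_mk {X : Type u} [CommRing X] (q M : Ideal X) [hM : M.IsMaximal] (hqM : q ≤ M)
    (huniq : ∀ y : Ideal X, y.IsPrime → q ≤ y → y = q ∨ y = M) (x : X) (hx : x ∉ M) :
    IsUnit (Ideal.Quotient.mk q x) := by
  by_contra hu
  obtain ⟨m, hm, hmem⟩ := exists_max_ideal_of_mem_nonunits (a := Ideal.Quotient.mk q x) hu
  haveI := hm
  have hqm : q ≤ m.comap (Ideal.Quotient.mk q) := fun y hy => by
    show Ideal.Quotient.mk q y ∈ m
    rw [Ideal.Quotient.eq_zero_iff_mem.2 hy]
    exact zero_mem _
  haveI hmc := Ideal.comap_isMaximal_of_surjective (Ideal.Quotient.mk q) Ideal.Quotient.mk_surjective (K := m)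
  refine hx ?_
  rcases huniq _ hmc.isPrime hqm with e | e
  · exact hqM (e ▸ (hmem : x ∈ m.comap (Ideal.Quotient.mk q)))
  · exact e ▸ (hmem : x ∈ m.comap (Ideal.Quotient.mk q))

omit [IsNoetherianRing A] in
/-- A flat map induces flat maps on completed localisations. -/
theorem exists_flat_map [IsNoetherianRing A] {B : Type u} [CommRing B] [IsNoetherianRing B] (φ : A →+* B)
    (hφ : φ.Flat) (J : Ideal B) (g : B) (hJ : J = I.map φ) (hg : g = φ f) :
    ∃ χ : T I f →+* T J g, (∀ a, χ (algebraMap A _ a) = algebraMap B _ (φ a)) ∧ χ.Flat := by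
  subst hJ hg
  obtain ⟨χ, hχ⟩ := exists_psi I f φ (I.map φ) le_rfl
  refine ⟨χ, apply_algebraMap I f χ hχ, ?_⟩
  have hc : ∀ a, Localization.awayMap φ f (algebraMap A _ a) = algebraMap B (Localization.Away (φ f)) (φ a) :=
    fun a => IsLocalization.map_eq _ a
  have hgflat : (Localization.awayMap φ f).Flat := by
    letI := (Localization.awayMap φ f).toAlgebra
    letI : Algebra A B := φ.toAlgebra
    haveI : Module.Flat A B := hφ
    haveI : IsScalarTower A (Localization.Away f) (Localization.Away (φ f)) :=
      IsScalarTower.of_algebraMap_eq fun a => (IsScalarTower.algebraMap_apply A B _ a).trans (hc a).symm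
    haveI : Module.Flat B (Localization.Away (φ f)) := IsLocalization.flat _ (Submonoid.powers (φ f))
    show Module.Flat (Localization.Away f) (Localization.Away (φ f))
    exact (Module.flat_iff_of_isLocalization (Localization.Away f) (Submonoid.powers f) _).2
      (Module.Flat.trans A B _)
  haveI : IsNoetherianRing (Localization.Away f) :=
    IsLocalization.isNoetherianRing (Submonoid.powers f) _ inferInstance
  refine Groth.Agent.CplFlat.flat_completion_ringHom (Localization.awayMap φ f) hgflat _ _ ?_ χ
    (RingHom.congr_fun hχ)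
  rw [Ideal.map_map, Ideal.map_map]
  congr 1
  exact RingHom.ext hc

omit [IsNoetherianRing A] in
/-- Finite type through a quotient. -/
theorem finiteType_trans {B Z : Type u} [CommRing B] [Algebra A B] [CommRing Z] [Algebra A Z] [Algebra B Z]
    [IsScalarTower A B Z] (J : Ideal B) (hB : Algebra.FiniteType A (B ⧸ J)) [Algebra.FiniteType B Z]
    (hJ : ∀ b ∈ J, algebraMap B Z b = 0) : Algebra.FiniteType A Z := by
  letI : Algebra (B ⧸ J) Z := (Ideal.Quotient.lift J (algebraMap B Z) hJ).toAlgebra
  haveI : IsScalarTower B (B ⧸ J) Z := IsScalarTower.of_algebraMap_eq fun _ => rfl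
  haveI : IsScalarTower A (B ⧸ J) Z := IsScalarTower.of_algebraMap_eq fun a => by
    rw [IsScalarTower.algebraMap_apply A B Z, IsScalarTower.algebraMap_apply A B (B ⧸ J)]
    rfl
  haveI : Algebra.FiniteType (B ⧸ J) Z := Algebra.FiniteType.of_restrictScalars_finiteType B _ _
  exact Algebra.FiniteType.trans hB inferInstance

/-- Extension of ideals in a tower. -/
theorem map_tower {R S Z : Type u} [CommRing R] [CommRing S] [CommRing Z] [Algebra R S] [Algebra S Z]
    [Algebra R Z] [IsScalarTower R S Z] (K : Ideal R) :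
    (K.map (algebraMap R S)).map (algebraMap S Z) = K.map (algebraMap R Z) := by
  rw [Ideal.map_map, ← IsScalarTower.algebraMap_eq]

end Groth.Agent.RigClosed17
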