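import Groth.Agent.CplFlat.Noetherian
import Groth.Agent.FormalFibre.Completion
import Groth.Agent.RigClosed17.Cpl
import Mathlib

/-!
Ring maps out of completions of arbitrary rings at finitely generated ideals, and completed tensor
products of adic rings.
-/

set_option autoImplicit false

universe u

namespace Groth.Agent.RigClosed17

open TensorProduct

theorem exists_approx_gen {R : Type u} [CommRing R] (K : Ideal R) (hK : K.FG) (n : ℕ) (x : AdicCompletion K R) :
    ∃ r : R, x - algebraMap R (AdicCompletion K R) r ∈ (K.map (algebraMap R (AdicCompletion K R))) ^ n := by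
  obtain ⟨c, hc⟩ := Submodule.Quotient.mk_surjective _ (AdicCompletion.eval K R n x)
  refine ⟨c, ?_⟩
  rw [Groth.Agent.CplFlat.mem_pow_iff K hK, map_sub, sub_eq_zero, ← hc]
  rfl

theorem ext_hom_gen {R : Type u} [CommRing R] (K : Ideal R) (hK : K.FG) {X : Type u} [CommRing X]
    (L : Ideal X) [IsHausdorff L X] (ψ₁ ψ₂ : AdicCompletion K R →+* X)
    (h : ∀ r, ψ₁ (algebraMap R _ r) = ψ₂ (algebraMap R _ r))
    (hI : ∀ r ∈ K, ψ₁ (algebraMap R _ r) ∈ L) : ψ₁ = ψ₂ := by
  refine RingHom.ext fun x => sub_eq_zero.1 (IsHausdorff.haus ‹_› _ fun n => ?_)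
  rw [SModEq.zero, smul_eq_mul, Ideal.mul_top]
  obtain ⟨c, hc⟩ := exists_approx_gen K hK n x
  have hmap : ∀ ψ : AdicCompletion K R →+* X, (∀ a ∈ K, ψ (algebraMap R _ a) ∈ L) →
      ψ (x - algebraMap R _ c) ∈ L ^ n := fun ψ hψ => by
    have := Ideal.mem_map_of_mem ψ hc
    rw [Ideal.map_pow] at this
    refine Ideal.pow_right_mono ?_ n this
    rw [Ideal.map_map, Ideal.map_le_iff_le_comap]
    exact fun a ha => hψ a ha
  have h1 := hmap ψ₁ hI
  have h2 := hmap ψ₂ (fun a ha => h a ▸ hI a ha)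
  rw [map_sub] at h1 h2
  have := sub_mem h1 h2
  rwa [h c, sub_sub_sub_cancel_right] at this

theorem exists_hom_gen {R : Type u} [CommRing R] (K : Ideal R) {X : Type u} [CommRing X] (L : Ideal X)
    [IsAdicComplete L X] (τ : R →+* X) (hI : K.map τ ≤ L) :
    ∃ ψ : AdicCompletion K R →+* X, ∀ a, ψ (algebraMap R _ a) = τ a := by
  have hK : ∀ n, K ^ n ≤ (L ^ n).comap τ := fun n => by
    rw [← Ideal.map_le_iff_le_comap, Ideal.map_pow]
    exact Ideal.pow_right_mono hI n
  let F : ∀ n, AdicCompletion K R →+* X ⧸ L ^ n := fun n =>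
    (Ideal.quotientMap (L ^ n) τ (hK n)).comp (AdicCompletion.evalₐ K n).toRingHom
  have hF : ∀ {m n : ℕ} (hle : m ≤ n), (Ideal.Quotient.factorPow L hle).comp (F n) = F m := by
    intro m n hle
    refine RingHom.ext fun x => ?_
    obtain ⟨c, hc⟩ := Ideal.Quotient.mk_surjective (AdicCompletion.evalₐ K n x)
    show Ideal.Quotient.factorPow L hle (Ideal.quotientMap (L ^ n) τ (hK n) (AdicCompletion.evalₐ K n x)) =
      Ideal.quotientMap (L ^ m) τ (hK m) (AdicCompletion.evalₐ K m x)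
    rw [← FormalFibre.factor_evalₐ K hle x, ← hc, Ideal.quotientMap_mk, Ideal.Quotient.factorPow,
      Ideal.Quotient.factor_mk, Ideal.Quotient.factor_mk, Ideal.quotientMap_mk]
  refine ⟨IsAdicComplete.liftRingHom L F hF,
    fun a => sub_eq_zero.1 (IsHausdorff.haus (inferInstance : IsHausdorff L X) _ fun n => ?_)⟩
  rw [SModEq.zero, smul_eq_mul, Ideal.mul_top, ← Ideal.Quotient.eq, IsAdicComplete.mk_liftRingHom]
  show Ideal.quotientMap (L ^ n) τ (hK n) (AdicCompletion.evalₐ K n (algebraMap R _ a)) = _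
  rw [AlgHom.commutes, Ideal.Quotient.algebraMap_eq, Ideal.quotientMap_mk]

/-- The completed tensor product is Noetherian and topologically of finite type. -/
theorem ctensor_props {A : Type u} [CommRing A] [IsNoetherianRing A] (I : Ideal A) (C B : Type u)
    [CommRing C] [CommRing B] [Algebra A C] [Algebra A B]
    (hC : Algebra.FiniteType A (C ⧸ I.map (algebraMap A C)))
    (hB : Algebra.FiniteType A (B ⧸ I.map (algebraMap A B))) :
    IsNoetherianRing (AdicCompletion ((I.map (algebraMap A C)).map (algebraMap C (C ⊗[A] B))) (C ⊗[A] B)) ∧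
      Algebra.FiniteType A (AdicCompletion ((I.map (algebraMap A C)).map (algebraMap C (C ⊗[A] B))) (C ⊗[A] B) ⧸
        I.map (algebraMap A (AdicCompletion ((I.map (algebraMap A C)).map (algebraMap C (C ⊗[A] B))) (C ⊗[A] B)))) := by
  haveI := hC
  haveI := hB
  let R := C ⊗[A] B
  let K : Ideal R := (I.map (algebraMap A C)).map (algebraMap C R)
  have hK : K = I.map (algebraMap A R) := map_tower I
  have hKfg : K.FG := (I.fg_of_isNoetherianRing.map _).map _
  let C₀ := C ⧸ I.map (algebraMap A C)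
  let B₀ := B ⧸ I.map (algebraMap A B)
  have hkC : ∀ c ∈ I.map (algebraMap A C), (Ideal.Quotient.mk K) (c ⊗ₜ[A] (1 : B)) = 0 := fun c hc =>
    Ideal.Quotient.eq_zero_iff_mem.2 (Ideal.mem_map_of_mem (algebraMap C R) hc)
  have hkB : ∀ b ∈ I.map (algebraMap A B), (Ideal.Quotient.mk K) ((1 : C) ⊗ₜ[A] b) = 0 := fun b hb => by
    refine Ideal.Quotient.eq_zero_iff_mem.2 ?_
    refine (Ideal.map_le_iff_le_comap.2 ?_ :
      I.map (algebraMap A B) ≤ K.comap (Algebra.TensorProduct.includeRight : B →ₐ[A] R).toRingHom) hb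
    intro a ha
    show (Algebra.TensorProduct.includeRight : B →ₐ[A] R) (algebraMap A B a) ∈ K
    rw [AlgHom.commutes, hK]
    exact Ideal.mem_map_of_mem _ ha
  let fC : C₀ →ₐ[A] R ⧸ K := Ideal.Quotient.liftₐ _
    ((Ideal.Quotient.mkₐ A K).comp (Algebra.TensorProduct.includeLeft : C →ₐ[A] R)) hkC
  let fB : B₀ →ₐ[A] R ⧸ K := Ideal.Quotient.liftₐ _
    ((Ideal.Quotient.mkₐ A K).comp (Algebra.TensorProduct.includeRight : B →ₐ[A] R)) hkB
  let Φ : C₀ ⊗[A] B₀ →ₐ[A] R ⧸ K := Algebra.TensorProduct.lift fC fB fun _ _ => Commute.all _ _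
  have hΦ : Function.Surjective Φ := by
    intro z
    obtain ⟨z, rfl⟩ := Ideal.Quotient.mk_surjective z
    induction z using TensorProduct.induction_on with
    | zero => exact ⟨0, by simp⟩
    | tmul c b =>
      refine ⟨Ideal.Quotient.mk _ c ⊗ₜ Ideal.Quotient.mk _ b, ?_⟩
      rw [Algebra.TensorProduct.lift_tmul]
      show Ideal.Quotient.mk K (c ⊗ₜ[A] (1 : B)) * Ideal.Quotient.mk K ((1 : C) ⊗ₜ[A] b) = _
      rw [← map_mul, Algebra.TensorProduct.tmul_mul_tmul, mul_one, one_mul]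
    | add x y hx hy =>
      obtain ⟨a, ha⟩ := hx
      obtain ⟨b, hb⟩ := hy
      exact ⟨a + b, by rw [map_add, map_add, ha, hb]⟩
  haveI : Algebra.FiniteType A (C₀ ⊗[A] B₀) :=
    Algebra.FiniteType.trans (S := C₀) inferInstance inferInstance
  haveI : Algebra.FiniteType A (R ⧸ K) := Algebra.FiniteType.of_surjective Φ hΦ
  haveI : IsNoetherianRing (R ⧸ K) := Algebra.FiniteType.isNoetherianRing A _
  refine ⟨Groth.Agent.CplFlat.isNoetherianRing_completion_of_fg K hKfg, ?_⟩
  let D := AdicCompletion K R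
  have hKD : K.map (algebraMap R D) = I.map (algebraMap A D) :=
    (congrArg (Ideal.map (algebraMap R D)) hK).trans (map_tower I)
  refine Algebra.FiniteType.of_surjective
    (Ideal.Quotient.liftₐ K ((Ideal.Quotient.mkₐ A (I.map (algebraMap A D))).comp
      (IsScalarTower.toAlgHom A R D)) fun r hr => Ideal.Quotient.eq_zero_iff_mem.2
        (hKD ▸ Ideal.mem_map_of_mem _ hr)) fun x => ?_
  obtain ⟨x, rfl⟩ := Ideal.Quotient.mk_surjective x
  obtain ⟨r, hr⟩ := exists_approx_gen K hKfg 1 x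
  rw [pow_one, hKD] at hr
  exact ⟨Ideal.Quotient.mk K r, (Ideal.Quotient.eq.2 hr).symm⟩

end Groth.Agent.RigClosed17
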