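import Groth.Agent.CplFlat.Basic
import Mathlib

/-!
Flatness from level-wise flatness for finite modules over local algebras.
-/

set_option autoImplicit false

universe u

namespace Groth.Agent.RigClosed17

open TensorProduct

/-- A module, finite over a Noetherian algebra whose radical contains `I`, which is level-wise flat
for the `I`-adic filtration is flat. -/
theorem flat_of_levelFlat_finite {R S M : Type u} [CommRing R] [IsNoetherianRing R] [CommRing S]
    [IsNoetherianRing S] [Algebra R S] [AddCommGroup M] [Module R M] [Module S M] [IsScalarTower R S M]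
    [Module.Finite S M] (I : Ideal R) (hI : I.map (algebraMap R S) ≤ Ring.jacobson S)
    (h : CplFlat.LevelFlat I M) : Module.Flat R M := by
  classical
  refine Module.Flat.iff_lTensor_injective.2 fun J hJ => (injective_iff_map_eq_zero _).2 fun x hx => ?_
  obtain ⟨m, a, ha⟩ := Submodule.fg_iff_exists_fin_generating_family.1 hJ
  have haJ : ∀ j, a j ∈ J := fun j => ha ▸ Submodule.subset_span ⟨j, rfl⟩
  have hgen : ∀ y : M ⊗[R] J, ∃ w : Fin m → M, y = ∑ j, w j ⊗ₜ[R] (⟨a j, haJ j⟩ : J) := by
    intro y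
    induction y using TensorProduct.induction_on with
    | zero => exact ⟨0, by simp⟩
    | tmul v c =>
      obtain ⟨r, hr⟩ := (Submodule.mem_span_range_iff_exists_fun R).1 (show (c : R) ∈ Submodule.span R (Set.range a) from ha ▸ c.2)
      refine ⟨fun j => r j • v, ?_⟩
      simp only [TensorProduct.smul_tmul]
      rw [← TensorProduct.tmul_sum]
      congr 1
      refine Subtype.ext ?_
      rw [← hr]
      simp
    | add y z hy hz =>
      obtain ⟨v, rfl⟩ := hy
      obtain ⟨w, rfl⟩ := hz
      exact ⟨v + w, by simp [TensorProduct.add_tmul, Finset.sum_add_distrib]⟩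
  obtain ⟨w, rfl⟩ := hgen x
  have hrel : ∑ j, a j • w j = 0 := by
    have := congrArg (TensorProduct.rid R M) hx
    simpa using this
  obtain ⟨k, hk⟩ := Ideal.exists_pow_inf_eq_pow_smul I J
  have hsmall : ∀ n (c : J), (c : R) ∈ I ^ (n + k) → c ∈ (I ^ n • ⊤ : Submodule R J) := by
    intro n c hc
    rw [Submodule.mem_smul_top_iff]
    have h1 : (c : R) ∈ I ^ (n + k) • (⊤ : Submodule R R) ⊓ J :=
      ⟨by rw [smul_eq_mul, Ideal.mul_top]; exact hc, c.2⟩
    rw [hk (n + k) (Nat.le_add_left k n), Nat.add_sub_cancel] at h1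
    exact Submodule.smul_mono le_rfl inf_le_right h1
  -- the relation is divisible by all powers
  have hmem : ∀ n, ∑ j, w j ⊗ₜ[R] (⟨a j, haJ j⟩ : J) ∈ (I ^ n • ⊤ : Submodule R (M ⊗[R] J)) := by
    intro n
    obtain ⟨d, κ, z, hκ, hz⟩ := h (n + k) 1 m (fun _ => a) w (fun _ => by rw [hrel]; exact zero_mem _)
    have h1 : ∀ t, (∑ j, κ t j • (⟨a j, haJ j⟩ : J)) ∈ (I ^ n • ⊤ : Submodule R J) := fun t =>
      hsmall n _ (by simpa [mul_comm] using hκ t 0)
    have h2 : ∀ (v : M) (c : J), v ∈ (I ^ (n + k) • ⊤ : Submodule R M) →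
        v ⊗ₜ[R] c ∈ (I ^ n • ⊤ : Submodule R (M ⊗[R] J)) := fun v c hv => by
      refine Submodule.smul_induction_on hv (fun r hr y _ => ?_) fun y y' hy hy' => ?_
      · rw [← TensorProduct.smul_tmul']
        exact Submodule.smul_mem_smul (Ideal.pow_le_pow_right (Nat.le_add_right n k) hr) trivial
      · rw [TensorProduct.add_tmul]; exact add_mem hy hy'
    have h3 : ∀ (v : M) (c : J), c ∈ (I ^ n • ⊤ : Submodule R J) →
        v ⊗ₜ[R] c ∈ (I ^ n • ⊤ : Submodule R (M ⊗[R] J)) := fun v c hc => by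
      refine Submodule.smul_induction_on hc (fun r hr y _ => ?_) fun y y' hy hy' => ?_
      · rw [TensorProduct.tmul_smul]
        exact Submodule.smul_mem_smul hr trivial
      · rw [TensorProduct.tmul_add]; exact add_mem hy hy'
    have heq : ∑ j, w j ⊗ₜ[R] (⟨a j, haJ j⟩ : J) =
        ∑ j, (w j - ∑ t, κ t j • z t) ⊗ₜ[R] (⟨a j, haJ j⟩ : J) +
        ∑ t, z t ⊗ₜ[R] (∑ j, κ t j • (⟨a j, haJ j⟩ : J)) := by
      simp only [TensorProduct.sub_tmul, TensorProduct.sum_tmul, TensorProduct.tmul_sum,
        TensorProduct.smul_tmul, Finset.sum_sub_distrib]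
      rw [Finset.sum_comm (γ := Fin d) (α := Fin m)]
      abel
    rw [heq]
    exact add_mem (Submodule.sum_mem _ fun j _ => h2 _ _ (hz j)) (Submodule.sum_mem _ fun t _ => h3 _ _ (h1 t))
  -- separatedness
  haveI : Module.Finite R J := Module.Finite.iff_fg.2 hJ
  haveI : Module.Finite S (M ⊗[R] J) := Module.Finite.of_surjective
    ({ toFun := fun w : Fin m → M => ∑ j, w j ⊗ₜ[R] (⟨a j, haJ j⟩ : J)
       map_add' := fun v w => by simp [TensorProduct.add_tmul, Finset.sum_add_distrib]
       map_smul' := fun r v => by simp [Finset.smul_sum, TensorProduct.smul_tmul'] } :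
      (Fin m → M) →ₗ[S] M ⊗[R] J) fun y => ⟨(hgen y).choose, (hgen y).choose_spec.symm⟩
  haveI : IsHausdorff (I.map (algebraMap R S)) (M ⊗[R] J) :=
    IsHausdorff.of_le_jacobson _ _ (by rw [Ideal.jacobson_bot]; exact hI)
  refine IsHausdorff.haus ‹_› _ fun n => ?_
  rw [SModEq.zero]
  refine Submodule.smul_induction_on (hmem n) (fun r hr y _ => ?_) fun y y' hy hy' => add_mem hy hy'
  rw [← algebraMap_smul S r y, ← Ideal.map_pow]
  exact Submodule.smul_mem_smul (Ideal.mem_map_of_mem _ hr) trivial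

end Groth.Agent.RigClosed17
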