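import Mathlib

/-!
Flat local homomorphisms with trivial fibre and trivial residue extension.
-/

set_option autoImplicit false

universe u v

namespace Groth.Agent.RigClosed17

open IsLocalRing

/-- A local map which is surjective modulo the extended maximal ideal is surjective modulo all its
powers. -/
theorem dense_of_residue {R : Type u} {S : Type v} [CommRing R] [CommRing S] (φ : R →+* S) (m : Ideal R)
    (h1 : ∀ s : S, ∃ r : R, s - φ r ∈ m.map φ) : ∀ (n : ℕ) (s : S), ∃ r : R, s - φ r ∈ (m.map φ) ^ n := by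
  intro n
  induction n with
  | zero => exact fun s => ⟨0, by simp⟩
  | succ n ih =>
    intro s
    obtain ⟨r, hr⟩ := ih s
    have hstep : ∀ z ∈ (m ^ n).map φ, ∃ r : R, z - φ r ∈ (m.map φ) ^ (n + 1) := by
      intro z hz
      induction hz using Submodule.span_induction with
      | mem z hz => obtain ⟨c, -, rfl⟩ := hz; exact ⟨c, by simp⟩
      | zero => exact ⟨0, by simp⟩
      | add a b _ _ ha hb =>
        obtain ⟨c, hc⟩ := ha
        obtain ⟨d, hd⟩ := hb
        exact ⟨c + d, by
          rw [map_add, show a + b - (φ c + φ d) = (a - φ c) + (b - φ d) by ring]; exact add_mem hc hd⟩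
      | smul t z hz hc =>
        obtain ⟨c, hc⟩ := hc
        obtain ⟨t₀, ht⟩ := h1 t
        refine ⟨t₀ * c, ?_⟩
        have hz' : z ∈ (m.map φ) ^ n := (Ideal.map_pow φ m n) ▸ hz
        rw [smul_eq_mul, map_mul,
          show t * z - φ t₀ * φ c = (t - φ t₀) * z + φ t₀ * (z - φ c) by ring, pow_succ']
        exact add_mem (Ideal.mul_mem_mul ht hz') (Ideal.mul_mem_left _ _ (pow_succ' (m.map φ) n ▸ hc))
    obtain ⟨d, hd⟩ := hstep _ (show s - φ r ∈ (m ^ n).map φ by rw [Ideal.map_pow]; exact hr)
    exact ⟨r + d, by rwa [map_add, ← sub_sub]⟩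

/-- Flat, same maximal ideal: powers of the maximal ideal are contracted. -/
theorem comap_pow_maximal {R : Type u} {S : Type u} [CommRing R] [CommRing S] [IsLocalRing R]
    [IsLocalRing S] (φ : R →+* S) [IsLocalHom φ] (hflat : φ.Flat)
    (hm : (maximalIdeal R).map φ = maximalIdeal S) (n : ℕ) (x : R) (hx : φ x ∈ maximalIdeal S ^ n) :
    x ∈ maximalIdeal R ^ n := by
  letI := φ.toAlgebra
  haveI : Module.Flat R S := hflat
  haveI : IsLocalHom (algebraMap R S) := ‹IsLocalHom φ›
  haveI : Module.FaithfullyFlat R S := Module.FaithfullyFlat.of_flat_of_isLocalHom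
  rw [← Ideal.comap_map_eq_self_of_faithfullyFlat (B := S) (maximalIdeal R ^ n)]
  show φ x ∈ (maximalIdeal R ^ n).map φ
  rw [Ideal.map_pow, hm]
  exact hx

end Groth.Agent.RigClosed17
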