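import Groth.Agent.RigClosed17.Cpl
import Groth.Agent.RigClosed17.CplGen
import Groth.Agent.RigClosed17.FlatLevel
import Mathlib

/-!
Completed base change of adic rings: level flatness.
-/

set_option autoImplicit false

universe u

namespace Groth.Agent.RigClosed17.Pushout

open TensorProduct

/-- Quotients by powers of a prime with finite residue ring are finite. -/
theorem finite_quotient_pow {A : Type u} [CommRing A] [IsNoetherianRing A] (I : Ideal A) [IsAdicComplete I A]
    {C : Type u} [CommRing C] [Algebra A C] [IsNoetherianRing C] [IsAdicComplete (I.map (algebraMap A C)) C]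
    (hft : ∀ N : Ideal C, I.map (algebraMap A C) ≤ N → Algebra.FiniteType A (C ⧸ N))
    (P : Ideal C) [Module.Finite A (C ⧸ P)] (n : ℕ) : Module.Finite A (C ⧸ P ^ n) := by
  refine RigClosed17.finite_quotient I (P ^ n) ?_
  haveI := hft (P ^ n ⊔ I.map (algebraMap A C)) le_sup_right
  haveI : Algebra.IsIntegral A (C ⧸ (P ^ n ⊔ I.map (algebraMap A C))) := ⟨fun x => by
    obtain ⟨b, rfl⟩ := Ideal.Quotient.mk_surjective x
    obtain ⟨f, hf, hfb⟩ := IsIntegral.of_finite A (Ideal.Quotient.mk P b)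
    have hmem : Polynomial.aeval b f ∈ P := by
      rw [← Ideal.Quotient.eq_zero_iff_mem, ← Ideal.Quotient.mkₐ_eq_mk A, ← Polynomial.aeval_algHom_apply]
      exact hfb
    refine ⟨f ^ n, hf.pow n, ?_⟩
    rw [← Polynomial.aeval_def, ← Ideal.Quotient.mkₐ_eq_mk A, Polynomial.aeval_algHom_apply, map_pow,
      Ideal.Quotient.mkₐ_eq_mk, Ideal.Quotient.eq_zero_iff_mem]
    exact Ideal.mem_sup_left (Ideal.pow_mem_pow hmem n)⟩
  exact Algebra.IsIntegral.finite

/-- Flatness over a localisation from flatness of the quotients over the ring. -/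
theorem levelFlat_localization {C : Type u} [CommRing C] (P : Ideal C) [P.IsPrime] {S : Type u} [CommRing S]
    [Algebra C S] [Algebra (Localization.AtPrime P) S] [IsScalarTower C (Localization.AtPrime P) S]
    (h : CplFlat.LevelFlat P S) : CplFlat.LevelFlat (IsLocalRing.maximalIdeal (Localization.AtPrime P)) S := by
  classical
  let R := Localization.AtPrime P
  let m' := IsLocalRing.maximalIdeal R
  have hm : ∀ n, m' ^ n = (P ^ n).map (algebraMap C R) := fun n => by
    rw [Ideal.map_pow, Localization.AtPrime.map_eq_maximalIdeal]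
  have hsm : ∀ n (x : S), x ∈ (P ^ n • ⊤ : Submodule C S) ↔ x ∈ (m' ^ n • ⊤ : Submodule R S) := fun n x => by
    rw [Ideal.smul_top_eq_map, Ideal.smul_top_eq_map, Submodule.restrictScalars_mem,
      Submodule.restrictScalars_mem, hm, RigClosed17.map_tower]
  intro n l m g w hw
  obtain ⟨⟨s, hs⟩, hg⟩ := IsLocalization.exist_integer_multiples_of_finite P.primeCompl
    (fun ij : Fin l × Fin m => g ij.1 ij.2)
  choose a ha using hg
  have hrow : ∀ i, ∑ j, a (i, j) • w j ∈ (P ^ n • ⊤ : Submodule C S) := fun i => by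
    rw [hsm]
    have : ∑ j, a (i, j) • w j = s • ∑ j, g i j • w j := by
      rw [Finset.smul_sum]
      refine Finset.sum_congr rfl fun j _ => ?_
      rw [← algebraMap_smul R (a (i, j)) (w j), ha (i, j), smul_assoc]
    rw [this, ← algebraMap_smul R s]
    exact Submodule.smul_mem _ _ (hw i)
  obtain ⟨d, κ, z, hκ, hz⟩ := h n l m (fun i j => a (i, j)) w hrow
  refine ⟨d, fun t j => algebraMap C R (κ t j), z, fun t i => ?_, fun j => ?_⟩
  · have h1 : algebraMap C R s * ∑ j, g i j * algebraMap C R (κ t j) = algebraMap C R (∑ j, a (i, j) * κ t j) := by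
      rw [map_sum, Finset.mul_sum]
      refine Finset.sum_congr rfl fun j _ => ?_
      rw [map_mul, ha (i, j), Algebra.smul_def, mul_assoc]
    have h2 : algebraMap C R (∑ j, a (i, j) * κ t j) ∈ m' ^ n := (hm n).symm ▸ Ideal.mem_map_of_mem _ (hκ t i)
    rw [← h1] at h2
    exact ((m' ^ n).unit_mul_mem_iff_mem (IsLocalization.map_units R (⟨s, hs⟩ : P.primeCompl))).1 h2
  · rw [← hsm]
    rw [Finset.sum_congr rfl fun t _ => algebraMap_smul R (κ t j) (z t)]
    exact hz j

/-- Maps out of a completed localised tensor product are determined on the factors. -/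
theorem ext_pushout {A : Type u} [CommRing A] [IsNoetherianRing A] (I : Ideal A) {C B : Type u} [CommRing C]
    [CommRing B] [Algebra A C] [Algebra A B]
    [IsNoetherianRing (AdicCompletion ((I.map (algebraMap A C)).map (algebraMap C (TensorProduct A C B))) (TensorProduct A C B))]
    (v : (AdicCompletion ((I.map (algebraMap A C)).map (algebraMap C (TensorProduct A C B))) (TensorProduct A C B)))
    (JD : Ideal (AdicCompletion ((I.map (algebraMap A C)).map (algebraMap C (TensorProduct A C B))) (TensorProduct A C B)))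
    (hJD : JD = (I.map (algebraMap A C)).map (algebraMap C (AdicCompletion ((I.map (algebraMap A C)).map (algebraMap C (TensorProduct A C B))) (TensorProduct A C B))))
    {X : Type u} [CommRing X] (L : Ideal X) [IsHausdorff L X] (f g : RigClosed17.T JD v →+* X)
    (hC : ∀ c : C, f (algebraMap _ _ (algebraMap C (AdicCompletion ((I.map (algebraMap A C)).map (algebraMap C (TensorProduct A C B))) (TensorProduct A C B)) c)) =
      g (algebraMap _ _ (algebraMap C (AdicCompletion ((I.map (algebraMap A C)).map (algebraMap C (TensorProduct A C B))) (TensorProduct A C B)) c)))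
    (hB : ∀ b : B, f (algebraMap _ _ (algebraMap (C ⊗[A] B) (AdicCompletion ((I.map (algebraMap A C)).map (algebraMap C (TensorProduct A C B))) (TensorProduct A C B)) ((1 : C) ⊗ₜ[A] b))) =
      g (algebraMap _ _ (algebraMap (C ⊗[A] B) (AdicCompletion ((I.map (algebraMap A C)).map (algebraMap C (TensorProduct A C B))) (TensorProduct A C B)) ((1 : C) ⊗ₜ[A] b))))
    (hI : ∀ a ∈ I, f (algebraMap _ _ (algebraMap C (AdicCompletion ((I.map (algebraMap A C)).map (algebraMap C (TensorProduct A C B))) (TensorProduct A C B)) (algebraMap A C a))) ∈ L) :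
    f = g := by
  let KD : Ideal (C ⊗[A] B) := (I.map (algebraMap A C)).map (algebraMap C (C ⊗[A] B))
  let D := AdicCompletion KD (C ⊗[A] B)
  let Y := RigClosed17.T JD v
  have hJL : (JD.map (algebraMap D Y)).map f ≤ L := by
    have h0 : JD.map (algebraMap D Y) = ((I.map (algebraMap A C)).map (algebraMap C D)).map (algebraMap D Y) :=
      congrArg (Ideal.map (algebraMap D Y)) hJD
    rw [h0, Ideal.map_map, Ideal.map_map, Ideal.map_map, Ideal.map_le_iff_le_comap]
    exact fun a ha => hI a ha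
  have hD : f.comp (algebraMap D Y) = g.comp (algebraMap D Y) := by
    refine RigClosed17.ext_hom_gen KD ((I.fg_of_isNoetherianRing.map _).map _) L _ _ (fun r => ?_) (fun r hr => ?_)
    · induction r using TensorProduct.induction_on with
      | zero => simp
      | tmul c b =>
        rw [show c ⊗ₜ[A] b = algebraMap C (C ⊗[A] B) c * ((1 : C) ⊗ₜ[A] b) from by
          show _ = (c ⊗ₜ[A] (1 : B)) * ((1 : C) ⊗ₜ[A] b)
          rw [Algebra.TensorProduct.tmul_mul_tmul, mul_one, one_mul]]
        have hc' : algebraMap (C ⊗[A] B) D (algebraMap C (C ⊗[A] B) c) = algebraMap C D c :=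
          (IsScalarTower.algebraMap_apply C (C ⊗[A] B) D c).symm
        simp only [map_mul, RingHom.comp_apply]
        erw [hc']
        exact congrArg₂ (· * ·) (hC c) (hB b)
      | add x y hx hy => simp only [map_add] at hx hy ⊢; rw [hx, hy]
    · refine hJL (Ideal.mem_map_of_mem f (Ideal.mem_map_of_mem (algebraMap D Y) ?_))
      rw [hJD]
      have := Ideal.mem_map_of_mem (algebraMap (C ⊗[A] B) D) hr
      rwa [RigClosed17.map_tower] at this
  exact RigClosed17.ext_hom JD v L f g (RingHom.congr_fun hD)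
    (fun d hd => hJL (Ideal.mem_map_of_mem f (Ideal.mem_map_of_mem (algebraMap D Y) hd)))

/-- Maps out of a completed localised tensor product. -/
theorem exists_pushout {A : Type u} [CommRing A] [IsNoetherianRing A] (I : Ideal A) {C B : Type u} [CommRing C]
    [CommRing B] [Algebra A C] [Algebra A B]
    [IsNoetherianRing (AdicCompletion ((I.map (algebraMap A C)).map (algebraMap C (TensorProduct A C B))) (TensorProduct A C B))]
    (v : (AdicCompletion ((I.map (algebraMap A C)).map (algebraMap C (TensorProduct A C B))) (TensorProduct A C B)))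
    (JD : Ideal (AdicCompletion ((I.map (algebraMap A C)).map (algebraMap C (TensorProduct A C B))) (TensorProduct A C B)))
    (hJD : JD = (I.map (algebraMap A C)).map (algebraMap C (AdicCompletion ((I.map (algebraMap A C)).map (algebraMap C (TensorProduct A C B))) (TensorProduct A C B))))
    (w : C) (hv : v = algebraMap C (AdicCompletion ((I.map (algebraMap A C)).map (algebraMap C (TensorProduct A C B))) (TensorProduct A C B)) w)
    {X : Type u} [CommRing X] [Algebra A X] (L : Ideal X) [IsAdicComplete L X] (f₁ : C →ₐ[A] X) (f₂ : B →ₐ[A] X)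
    (hw : IsUnit (f₁ w)) (hI : I.map (algebraMap A X) ≤ L) :
    ∃ Φ : RigClosed17.T JD v →+* X,
      (∀ c : C, Φ (algebraMap _ _ (algebraMap C (AdicCompletion ((I.map (algebraMap A C)).map (algebraMap C (TensorProduct A C B))) (TensorProduct A C B)) c)) = f₁ c) ∧
      ∀ b : B, Φ (algebraMap _ _ (algebraMap (C ⊗[A] B) (AdicCompletion ((I.map (algebraMap A C)).map (algebraMap C (TensorProduct A C B))) (TensorProduct A C B)) ((1 : C) ⊗ₜ[A] b))) = f₂ b := by
  let R := C ⊗[A] B
  let KD : Ideal R := (I.map (algebraMap A C)).map (algebraMap C R)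
  let D := AdicCompletion KD R
  let τ₀ : R →ₐ[A] X := Algebra.TensorProduct.lift f₁ f₂ fun _ _ => Commute.all _ _
  obtain ⟨τD, hτD⟩ := RigClosed17.exists_hom_gen KD L τ₀.toRingHom (by
    rw [show KD = I.map (algebraMap A R) from RigClosed17.map_tower I, Ideal.map_map,
      show τ₀.toRingHom.comp (algebraMap A R) = algebraMap A X from τ₀.comp_algebraMap]
    exact hI)
  have hτC : ∀ c, τD (algebraMap C D c) = f₁ c := fun c => by
    rw [IsScalarTower.algebraMap_apply C R D, hτD]
    show τ₀ (c ⊗ₜ[A] (1 : B)) = _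
    rw [Algebra.TensorProduct.lift_tmul, map_one, mul_one]
  obtain ⟨Φ, hΦ⟩ := RigClosed17.exists_hom JD v L τD (by rw [hv, hτC]; exact hw) (by
    rw [hJD, Ideal.map_map, Ideal.map_map, Ideal.map_le_iff_le_comap]
    intro a ha
    show τD (algebraMap C D (algebraMap A C a)) ∈ L
    rw [hτC, AlgHom.commutes]
    exact hI (Ideal.mem_map_of_mem _ ha))
  refine ⟨Φ, fun c => by rw [hΦ, hτC], fun b => ?_⟩
  rw [hΦ, hτD]
  show τ₀ ((1 : C) ⊗ₜ[A] b) = _
  rw [Algebra.TensorProduct.lift_tmul, map_one, one_mul]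

/-- Tensor products with finite algebras are complete. -/
theorem tensor_complete {A₀ : Type u} [CommRing A₀] [IsNoetherianRing A₀] (I₀ : Ideal A₀) (G B₀ : Type u)
    [CommRing G] [CommRing B₀] [Algebra A₀ G] [Algebra A₀ B₀] [Module.Finite A₀ G] [IsNoetherianRing B₀]
    [IsAdicComplete (I₀.map (algebraMap A₀ B₀)) B₀] :
    IsAdicComplete (I₀.map (algebraMap A₀ (G ⊗[A₀] B₀))) (G ⊗[A₀] B₀) := by
  let H := G ⊗[A₀] B₀
  let inB : B₀ →ₐ[A₀] H := Algebra.TensorProduct.includeRight
  letI : Algebra B₀ H := inB.toRingHom.toAlgebra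
  haveI : IsScalarTower A₀ B₀ H := IsScalarTower.of_algebraMap_eq fun a => (inB.commutes a).symm
  haveI : Module.Finite B₀ H := Module.Finite.of_surjective
    ({ (Algebra.TensorProduct.comm A₀ B₀ G).toRingEquiv.toRingHom with
        commutes' := fun b => rfl } : B₀ ⊗[A₀] G →ₐ[B₀] H).toLinearMap
    (Algebra.TensorProduct.comm A₀ B₀ G).surjective
  have h := (IsAdicComplete.map_algebraMap_iff (S := H) (I₀.map (algebraMap A₀ B₀)) H).2
    (Groth.Agent.AdicLim.isAdicComplete_of_finite (I := I₀.map (algebraMap A₀ B₀)) H)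
  rwa [RigClosed17.map_tower] at h

set_option maxHeartbeats 1000000 in
/-- Flatness of the quotients from a pushout description. -/
theorem flat_quotient {A₀ B₀ C₁ Y : Type u} [CommRing A₀] [CommRing B₀] [CommRing C₁] [CommRing Y]
    [Algebra A₀ B₀] [Algebra A₀ C₁] [Algebra A₀ Y] [Algebra B₀ Y] [Algebra C₁ Y]
    [IsScalarTower A₀ B₀ Y] [IsScalarTower A₀ C₁ Y] (q' : Ideal Y) [q'.IsPrime]
    [Module.Flat A₀ (Localization.AtPrime (q'.comap (algebraMap B₀ Y)))] (𝔞 : Ideal C₁)
    (Φ : Y →+* (C₁ ⧸ 𝔞) ⊗[A₀] B₀)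
    (hΦC : ∀ c : C₁, Φ (algebraMap C₁ Y c) = (Ideal.Quotient.mk 𝔞 c : C₁ ⧸ 𝔞) ⊗ₜ[A₀] (1 : B₀))
    (hΦB : ∀ b : B₀, Φ (algebraMap B₀ Y b) = (1 : C₁ ⧸ 𝔞) ⊗ₜ[A₀] b)
    (hext : ∀ f : Y →+* Y ⧸ 𝔞.map (algebraMap C₁ Y),
      (∀ c, f (algebraMap C₁ Y c) = Ideal.Quotient.mk _ (algebraMap C₁ Y c)) →
      (∀ b, f (algebraMap B₀ Y b) = Ideal.Quotient.mk _ (algebraMap B₀ Y b)) →
      f = Ideal.Quotient.mk _) :
    Module.Flat (C₁ ⧸ 𝔞) (Localization.AtPrime q' ⧸ (𝔞 • ⊤ : Submodule C₁ (Localization.AtPrime q'))) := by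
  let S1 := Localization.AtPrime q'
  let G := C₁ ⧸ 𝔞
  let K : Ideal Y := 𝔞.map (algebraMap C₁ Y)
  let Z := Y ⧸ K
  letI : Algebra G Z := (Ideal.quotientMap K (algebraMap C₁ Y) Ideal.le_comap_map).toAlgebra
  haveI : IsScalarTower A₀ G Z := IsScalarTower.of_algebraMap_eq fun a => by
    show _ = Ideal.Quotient.mk K (algebraMap C₁ Y (algebraMap A₀ C₁ a))
    rw [← IsScalarTower.algebraMap_apply A₀ C₁ Y]
    rfl
  let H := G ⊗[A₀] B₀
  let Θ : H →ₐ[A₀] Z := Algebra.TensorProduct.lift (IsScalarTower.toAlgHom A₀ G Z)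
    ((Ideal.Quotient.mkₐ A₀ K).comp (IsScalarTower.toAlgHom A₀ B₀ Y)) fun _ _ => Commute.all _ _
  have hΘΦ : ∀ y, Θ (Φ y) = Ideal.Quotient.mk K y := RingHom.congr_fun (hext (Θ.toRingHom.comp Φ)
    (fun c => by
      show Θ (Φ (algebraMap C₁ Y c)) = _
      rw [hΦC, Algebra.TensorProduct.lift_tmul, map_one, mul_one]
      rfl)
    (fun b => by
      show Θ (Φ (algebraMap B₀ Y b)) = _
      rw [hΦB, Algebra.TensorProduct.lift_tmul, map_one, one_mul]
      rfl))
  let Φ' : Z →+* H := Ideal.Quotient.lift K Φ fun y hy => by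
    refine (Ideal.map_le_iff_le_comap.2 ?_ : K ≤ RingHom.ker Φ) hy
    intro c hc
    show Φ (algebraMap C₁ Y c) = 0
    rw [hΦC, Ideal.Quotient.eq_zero_iff_mem.2 hc, TensorProduct.zero_tmul]
  have hΦΘ : ∀ x : H, Φ' (Θ x) = x := fun x => by
    induction x using TensorProduct.induction_on with
    | zero => simp
    | tmul g b =>
      obtain ⟨c, rfl⟩ := Ideal.Quotient.mk_surjective g
      rw [Algebra.TensorProduct.lift_tmul, map_mul]
      show Φ (algebraMap C₁ Y c) * Φ (algebraMap B₀ Y b) = _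
      rw [hΦC, hΦB, Algebra.TensorProduct.tmul_mul_tmul, mul_one, one_mul]
    | add x y hx hy => rw [map_add, map_add, hx, hy]
  have hΘbij : Function.Bijective Θ.toRingHom :=
    ⟨fun x y hxy => by rw [← hΦΘ x, ← hΦΘ y]; exact congrArg Φ' hxy, fun z => by
      obtain ⟨y, rfl⟩ := Ideal.Quotient.mk_surjective z
      exact ⟨Φ y, hΘΦ y⟩⟩
  let L := S1 ⧸ K.map (algebraMap Y S1)
  haveI : Module.Flat Z L := by
    let e₁ : Z ⊗[Y] S1 ≃ₗ[Y] S1 ⧸ (K • ⊤ : Submodule Y S1) := TensorProduct.quotTensorEquivQuotSMul S1 K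
    let e₂ : (S1 ⧸ (K • ⊤ : Submodule Y S1)) ≃ₗ[Y] L :=
      (Submodule.quotEquivOfEq _ _ (Ideal.smul_top_eq_map K)).trans
        ((Submodule.Quotient.restrictScalarsEquiv Y (K.map (algebraMap Y S1))))
    exact Module.Flat.of_linearEquiv
      ((LinearEquiv.extendScalarsOfSurjective (S := Z) Ideal.Quotient.mk_surjective (e₁.trans e₂)).symm)
  letI : Algebra H L := ((algebraMap Z L).comp Θ.toRingHom).toAlgebra
  haveI : Module.Flat H L := RingHom.flat_algebraMap_iff.1
    ((RingHom.Flat.of_bijective hΘbij).comp (RingHom.flat_algebraMap_iff.2 inferInstance))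
  letI : Algebra G L := ((algebraMap Z L).comp (algebraMap G Z)).toAlgebra
  haveI : IsScalarTower A₀ G L := IsScalarTower.of_algebraMap_eq fun a => by
    show _ = algebraMap Z L (algebraMap G Z (algebraMap A₀ G a))
    rw [← IsScalarTower.algebraMap_apply A₀ G Z]
    rfl
  let p : Ideal B₀ := q'.comap (algebraMap B₀ Y)
  let S0 := Localization.AtPrime p
  let χ : S0 →+* S1 := Localization.localRingHom p q' (algebraMap B₀ Y) rfl
  let kS0 : S0 →ₐ[A₀] L :=
    { (Ideal.Quotient.mk _).comp χ with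
      commutes' := fun a => by
        show Ideal.Quotient.mk _ (χ (algebraMap A₀ S0 a)) = _
        rw [IsScalarTower.algebraMap_apply A₀ B₀ S0, Localization.localRingHom_to_map,
          ← IsScalarTower.algebraMap_apply A₀ B₀ Y, ← IsScalarTower.algebraMap_apply A₀ Y S1]
        rfl }
  let H0 := G ⊗[A₀] S0
  let kH : H0 →ₐ[A₀] L := Algebra.TensorProduct.lift (IsScalarTower.toAlgHom A₀ G L) kS0 fun _ _ => Commute.all _ _
  let jH : H →ₐ[G] H0 := Algebra.TensorProduct.map (AlgHom.id G G) (IsScalarTower.toAlgHom A₀ B₀ S0)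
  letI : Algebra H H0 := jH.toRingHom.toAlgebra
  haveI : IsScalarTower G H H0 := IsScalarTower.of_algebraMap_eq fun g => (jH.commutes g).symm
  haveI hloc : IsLocalization (p.primeCompl.map
      (Algebra.TensorProduct.includeRight (R := A₀) (A := G) (B := B₀))) H0 :=
    IsLocalization.tensorProduct_tensorProduct_right A₀ G p.primeCompl S0 (RingHom.ext fun b => by
      show jH ((1 : G) ⊗ₜ[A₀] b) = (1 : G) ⊗ₜ[A₀] algebraMap B₀ S0 b
      rfl)
  letI : Algebra H0 L := kH.toRingHom.toAlgebra
  haveI : IsScalarTower H H0 L := IsScalarTower.of_algebraMap_eq fun x => by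
    show algebraMap Z L (Θ x) = kH (jH x)
    induction x using TensorProduct.induction_on with
    | zero => simp
    | tmul g b =>
      show algebraMap Z L (Θ (g ⊗ₜ[A₀] b)) = kH (g ⊗ₜ[A₀] algebraMap B₀ S0 b)
      rw [Algebra.TensorProduct.lift_tmul, Algebra.TensorProduct.lift_tmul, map_mul]
      congr 1
      show algebraMap Z L (Ideal.Quotient.mk K (algebraMap B₀ Y b)) = Ideal.Quotient.mk _ (χ (algebraMap B₀ S0 b))
      rw [Localization.localRingHom_to_map]
      rfl
    | add x y hx hy => simp only [map_add] at hx hy ⊢; rw [hx, hy]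
  haveI : Module.Flat H0 L := (Module.flat_iff_of_isLocalization H0
    (p.primeCompl.map (Algebra.TensorProduct.includeRight (R := A₀) (A := G) (B := B₀))) L).2 inferInstance
  haveI : IsScalarTower G H0 L := IsScalarTower.of_algebraMap_eq fun g => by
    show _ = kH (g ⊗ₜ[A₀] (1 : S0))
    rw [Algebra.TensorProduct.lift_tmul, map_one, mul_one]
    rfl
  haveI : Module.Flat G L := Module.Flat.trans G H0 L
  haveI : IsScalarTower C₁ G L := IsScalarTower.of_algebraMap_eq fun c => by
    show _ = algebraMap Z L (Ideal.Quotient.mk K (algebraMap C₁ Y c))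
    rfl
  let f₁ : (S1 ⧸ (𝔞 • ⊤ : Submodule C₁ S1)) ≃ₗ[C₁] L :=
    (Submodule.quotEquivOfEq _ _ (by
      rw [Ideal.smul_top_eq_map, RigClosed17.map_tower]
      : (𝔞 • ⊤ : Submodule C₁ S1) = (K.map (algebraMap Y S1)).restrictScalars C₁)).trans
      (Submodule.Quotient.restrictScalarsEquiv C₁ (K.map (algebraMap Y S1)))
  exact Module.Flat.of_linearEquiv (LinearEquiv.extendScalarsOfSurjective (S := G) Ideal.Quotient.mk_surjective f₁)

end Groth.Agent.RigClosed17.Pushout
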